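import Cfsg.Agent.StPres.Rank1
import Cfsg.Agent.Classical.Transvections
import Mathlib.GroupTheory.GroupAction.Quotient

/-!
# Steinberg's relations present `SL_n` of a finite field

Induction on `n`: the cosets of the stabiliser of the first coordinate vector are indexed by the
non-zero vectors.
-/

set_option autoImplicit false
set_option linter.unusedSectionVars false
set_option linter.style.haveILetI false

namespace CfsgLib.StPres

open Matrix

/-- Conjugation. -/
def cj {E : Type*} [Group E] (g a : E) : E := g * a * g⁻¹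

theorem cj_mul {E : Type*} [Group E] (g a b : E) : cj g (a * b) = cj g a * cj g b := by
  simp [cj, mul_assoc]

theorem cj_inv {E : Type*} [Group E] (g a : E) : cj g a⁻¹ = (cj g a)⁻¹ := by
  simp [cj, mul_assoc]

theorem cj_cj {E : Type*} [Group E] (g g' a : E) : cj (g * g') a = cj g (cj g' a) := by
  simp [cj, mul_assoc]

theorem shuffle {E : Type*} [Group E] {a b c d e : E} (hb : Commute a b) (hc : Commute a c)
    (hd : Commute a d) : a * b * c * (d * e) = b * c * d * (a * e) := by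
  calc a * b * c * (d * e) = a * (b * c * d) * e := by group
    _ = b * c * d * a * e := by rw [((hb.mul_right hc).mul_right hd).eq]
    _ = _ := by group

theorem up_add {K : Type*} [Field K] (t u : K) : up t * up u = up (t + u) := by
  refine Subtype.ext ?_
  show (up t).1 * (up u).1 = (up (t + u)).1
  simp [up, Matrix.mul_fin_two, add_comm]

theorem low_add {K : Type*} [Field K] (t u : K) : low t * low u = low (t + u) := by
  refine Subtype.ext ?_
  show (low t).1 * (low u).1 = (low (t + u)).1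
  simp [low, Matrix.mul_fin_two]

theorem up_low_conj {K : Type*} [Field K] (t u : K) (ht : t ≠ 0) :
    up t * low (-t⁻¹) * up t * up u * (up t * low (-t⁻¹) * up t)⁻¹ = low (-(t⁻¹ ^ 2 * u)) := by
  rw [mul_inv_eq_iff_eq_mul]
  refine Subtype.ext ?_
  show (up t).1 * (low (-t⁻¹)).1 * (up t).1 * (up u).1 =
    (low (-(t⁻¹ ^ 2 * u))).1 * ((up t).1 * (low (-t⁻¹)).1 * (up t).1)
  ext i j
  fin_cases i <;> fin_cases j <;> simp [up, low, Matrix.mul_apply, Fin.sum_univ_two] <;>
    field_simp <;> simp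

theorem conj_rel {K : Type*} [Field K] {a b : K → SpecialLinearGroup (Fin 2) K}
    (ha : ∀ t, a t = up t) (hb : ∀ t, b t = low t) (t u : K) (ht : t ≠ 0) :
    a t * b (-t⁻¹) * a t * a u * (a t * b (-t⁻¹) * a t)⁻¹ = b (-(t⁻¹ ^ 2 * u)) := by
  rw [ha, ha, hb, hb]
  exact up_low_conj t u ht

theorem transv_far {K : Type*} [Field K] {n : ℕ} {a b c d : Fin n} (h1 : a ≠ b) (h2 : c ≠ d)
    (h3 : a ≠ d) (h4 : b ≠ c) (t u : K) :
    SpecialLinearGroup.transvection h1 t * SpecialLinearGroup.transvection h2 u *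
      (SpecialLinearGroup.transvection h1 t)⁻¹ * (SpecialLinearGroup.transvection h2 u)⁻¹ = 1 := by
  rw [mul_inv_eq_one, mul_inv_eq_iff_eq_mul]
  refine Subtype.ext ?_
  show (SpecialLinearGroup.transvection h1 t).1 * (SpecialLinearGroup.transvection h2 u).1 =
    (SpecialLinearGroup.transvection h2 u).1 * (SpecialLinearGroup.transvection h1 t).1
  simp [SpecialLinearGroup.transvection, Matrix.transvection, mul_add, add_mul,
    Matrix.single_mul_single_of_ne _ _ _ _ h4, Matrix.single_mul_single_of_ne _ _ _ _ h3.symm]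
  abel

theorem transv_near {K : Type*} [Field K] {n : ℕ} {a b c : Fin n} (h1 : a ≠ b) (h2 : b ≠ c)
    (h3 : a ≠ c) (t u : K) :
    SpecialLinearGroup.transvection h1 t * SpecialLinearGroup.transvection h2 u *
      (SpecialLinearGroup.transvection h1 t)⁻¹ * (SpecialLinearGroup.transvection h2 u)⁻¹ =
        SpecialLinearGroup.transvection h3 (t * u) := by
  rw [mul_inv_eq_iff_eq_mul, mul_inv_eq_iff_eq_mul]
  refine Subtype.ext ?_
  show (SpecialLinearGroup.transvection h1 t).1 * (SpecialLinearGroup.transvection h2 u).1 =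
    (SpecialLinearGroup.transvection h3 (t * u)).1 * (SpecialLinearGroup.transvection h2 u).1 *
      (SpecialLinearGroup.transvection h1 t).1
  simp [SpecialLinearGroup.transvection, Matrix.transvection, mul_add, add_mul,
    Matrix.single_mul_single_of_ne _ _ _ _ h3.symm, Matrix.single_mul_single_of_ne _ _ _ _ h1.symm,
    Matrix.single_mul_single_of_ne _ _ _ _ h2.symm]
  abel

/-- A group with Steinberg's generators and relations of `SL_n`, mapped to `SL_n`. -/
structure StN (K : Type*) [Field K] (n : ℕ) (E : Type*) [Group E] where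
  /-- the generators -/
  x : Fin n → Fin n → K → E
  add : ∀ i j, i ≠ j → ∀ t u, x i j t * x i j u = x i j (t + u)
  far : ∀ i j k l, i ≠ j → k ≠ l → i ≠ l → j ≠ k → ∀ t u,
    x i j t * x k l u * (x i j t)⁻¹ * (x k l u)⁻¹ = 1
  near : ∀ i j l, i ≠ j → j ≠ l → i ≠ l → ∀ t u,
    x i j t * x j l u * (x i j t)⁻¹ * (x j l u)⁻¹ = x i l (t * u)
  gen : Subgroup.closure {g | ∃ i j, i ≠ j ∧ ∃ t, g = x i j t} = ⊤
  /-- the map to matrices -/
  π : E →* SpecialLinearGroup (Fin n) K
  π_x : ∀ i j, i ≠ j → ∀ t, (π (x i j t)).1 = transvection i j t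

namespace StN

variable {K : Type*} [Field K] {n : ℕ} {E : Type*} [Group E] (R : StN K n E)
variable {i j k l p q : Fin n} {t u : K}

theorem x_zero (h : i ≠ j) : R.x i j 0 = 1 := by
  have e := R.add i j h 0 0
  rw [add_zero] at e
  exact mul_left_cancel (e.trans (mul_one _).symm)

theorem x_inv (h : i ≠ j) (t : K) : (R.x i j t)⁻¹ = R.x i j (-t) := by
  rw [inv_eq_iff_mul_eq_one, R.add i j h, add_neg_cancel, R.x_zero h]

theorem cj_far (h1 : i ≠ j) (h2 : k ≠ l) (h3 : i ≠ l) (h4 : j ≠ k) :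
    cj (R.x i j t) (R.x k l u) = R.x k l u :=
  mul_inv_eq_one.mp (R.far i j k l h1 h2 h3 h4 t u)

theorem cj_near₁ (h1 : i ≠ j) (h2 : j ≠ l) (h3 : i ≠ l) :
    cj (R.x i j t) (R.x j l u) = R.x i l (t * u) * R.x j l u := by
  rw [← R.near i j l h1 h2 h3 t u, cj]; group

theorem cj_near₂ (h1 : i ≠ j) (h2 : j ≠ l) (h3 : i ≠ l) :
    cj (R.x j l u) (R.x i j t) = R.x i l (-(t * u)) * R.x i j t := by
  rw [← R.x_inv h3, ← R.near i j l h1 h2 h3 t u, cj]; group

theorem x_comm (h1 : i ≠ j) (h2 : k ≠ l) (h3 : i ≠ l) (h4 : j ≠ k) :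
    R.x i j t * R.x k l u = R.x k l u * R.x i j t :=
  mul_inv_eq_iff_eq_mul.mp (R.cj_far h1 h2 h3 h4)

/-- `w_pq(t)`. -/
def w (p q : Fin n) (t : K) : E := R.x p q t * R.x q p (-t⁻¹) * R.x p q t

theorem w_inv (h : p ≠ q) (t : K) : (R.w p q t)⁻¹ = R.w p q (-t) := by
  simp [w, R.x_inv h, R.x_inv h.symm, mul_assoc, inv_neg]

theorem cj_w_qk (hpq : p ≠ q) (hpk : p ≠ k) (hqk : q ≠ k) (ht : t ≠ 0) :
    cj (R.w p q t) (R.x q k u) = R.x p k (t * u) := by
  rw [w, cj_cj, cj_cj, R.cj_near₁ hpq hqk hpk, cj_mul, R.cj_near₁ hpq.symm hpk hqk,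
    R.cj_far hpq.symm hqk hqk hpq, cj_mul, cj_mul, R.cj_near₁ hpq hqk hpk,
    R.cj_near₁ hpq hqk hpk, R.cj_far hpq hpk hpk hpq.symm]
  have c : ∀ a b : K, Commute (R.x q k a) (R.x p k b) :=
    fun a b => R.x_comm hqk hpk hqk hpk.symm
  rw [show -t⁻¹ * (t * u) = -u by field_simp, ← (c (-u) (t * -u)).eq, shuffle (c _ _) (c _ _) (c _ _), R.add q k hqk,
    neg_add_cancel, R.x_zero hqk, mul_one, R.add p k hpk, R.add p k hpk]
  congr 1; ring

theorem cj_w_pk (hpq : p ≠ q) (hpk : p ≠ k) (hqk : q ≠ k) (ht : t ≠ 0) :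
    cj (R.w p q t) (R.x p k u) = R.x q k (-(t⁻¹ * u)) := by
  rw [w, cj_cj, cj_cj, R.cj_far hpq hpk hpk hpq.symm, R.cj_near₁ hpq.symm hpk hqk, cj_mul,
    R.cj_near₁ hpq hqk hpk, R.cj_far hpq hpk hpk hpq.symm, mul_assoc,
    R.x_comm hqk hpk hqk hpk.symm, ← mul_assoc, R.add p k hpk, show t * (-t⁻¹ * u) + u = 0 by
      field_simp; ring, R.x_zero hpk, one_mul]
  congr 1; ring

theorem cj_w_kp (hpq : p ≠ q) (hpk : p ≠ k) (hqk : q ≠ k) (ht : t ≠ 0) :
    cj (R.w p q t) (R.x k p u) = R.x k q (-(t * u)) := by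
  rw [w, cj_cj, cj_cj, R.cj_near₂ hpk.symm hpq hqk.symm, cj_mul, R.cj_near₂ hqk.symm hpq.symm hpk.symm,
    R.cj_far hpq.symm hpk.symm hpq.symm.symm.symm hpk, cj_mul, cj_mul, R.cj_near₂ hpk.symm hpq hqk.symm,
    R.cj_near₂ hpk.symm hpq hqk.symm, R.cj_far hpq hqk.symm hpq hqk]
  rw [show -(-(u * t) * -t⁻¹) = -u by field_simp]
  have c : ∀ a b : K, Commute (R.x k p a) (R.x k q b) :=
    fun a b => R.x_comm hpk.symm hqk.symm hqk.symm hpk
  rw [mul_assoc (R.x k q _) (R.x k p (-u)), (c _ _).eq]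
  rw [show ∀ a b c d e : E, a * (b * c) * (d * e) = a * b * (c * d) * e from
    fun a b c d e => by group]
  rw [R.add k q hqk.symm, (c _ _).eq, ← mul_assoc, R.add k q hqk.symm, mul_assoc,
    R.add k p hpk.symm, neg_add_cancel, R.x_zero hpk.symm, mul_one]
  congr 1; ring

theorem cj_w_kq (hpq : p ≠ q) (hpk : p ≠ k) (hqk : q ≠ k) (ht : t ≠ 0) :
    cj (R.w p q t) (R.x k q u) = R.x k p (t⁻¹ * u) := by
  rw [w, cj_cj, cj_cj, R.cj_far hpq hqk.symm hpq hqk, R.cj_near₂ hqk.symm hpq.symm hpk.symm, cj_mul,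
    R.cj_near₂ hpk.symm hpq hqk.symm, R.cj_far hpq hqk.symm hpq hqk, mul_assoc,
    R.x_comm hpk.symm hqk.symm hqk.symm hpk, ← mul_assoc, R.add k q hqk.symm,
    show -(-(u * -t⁻¹) * t) + u = 0 by field_simp; ring, R.x_zero hqk.symm, one_mul]
  congr 1; ring

theorem x_eq_comm (hpq : p ≠ q) (hpk : p ≠ k) (hqk : q ≠ k) (u v : K) :
    R.x p q (u * v) = R.x p k u * R.x k q v * (R.x p k u)⁻¹ * (R.x k q v)⁻¹ :=
  (R.near p k q hpk hqk.symm hpq u v).symm

theorem cj_w_pq (hpq : p ≠ q) (hpk : p ≠ k) (hqk : q ≠ k) (ht : t ≠ 0) :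
    cj (R.w p q t) (R.x p q u) = R.x q p (-(t⁻¹ ^ 2 * u)) := by
  conv_lhs => rw [← mul_one u, R.x_eq_comm hpq hpk hqk u 1]
  rw [cj_mul, cj_mul, cj_mul, cj_inv, cj_inv, R.cj_w_pk hpq hpk hqk ht, R.cj_w_kq hpq hpk hqk ht,
    ← R.x_eq_comm hpq.symm hqk hpk]
  congr 1; ring

theorem cj_w_qp (hpq : p ≠ q) (hpk : p ≠ k) (hqk : q ≠ k) (ht : t ≠ 0) :
    cj (R.w p q t) (R.x q p u) = R.x p q (-(t ^ 2 * u)) := by
  conv_lhs => rw [← mul_one u, R.x_eq_comm hpq.symm hqk hpk u 1]
  rw [cj_mul, cj_mul, cj_mul, cj_inv, cj_inv, R.cj_w_qk hpq hpk hqk ht, R.cj_w_kp hpq hpk hqk ht,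
    ← R.x_eq_comm hpq hpk hqk]
  congr 1; ring

/-- The pairs of a rank-one subgroup and their matrices. -/
def pairs (p q : Fin n) : Subgroup (E × SpecialLinearGroup (Fin 2) K) :=
  Subgroup.closure (Set.range (fun t => (R.x p q t, up t)) ∪ Set.range (fun t => (R.x q p t, low t)))

/-- Rank one inside `E`. -/
def rk1 (hpq : p ≠ q) (hpk : p ≠ k) (hqk : q ≠ k) : Rk1 K (R.pairs p q) where
  X t := ⟨(R.x p q t, up t), Subgroup.subset_closure (Or.inl ⟨t, rfl⟩)⟩
  Y t := ⟨(R.x q p t, low t), Subgroup.subset_closure (Or.inr ⟨t, rfl⟩)⟩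
  X_add t u := Subtype.ext (Prod.ext (R.add p q hpq t u) (up_add t u))
  Y_add t u := Subtype.ext (Prod.ext (R.add q p hpq.symm t u) (low_add t u))
  conjX t u ht := Subtype.ext (Prod.ext (R.cj_w_pq hpq hpk hqk ht) (up_low_conj t u ht))
  gen := by
    refine Subgroup.map_injective (Subgroup.subtype_injective _) ?_
    rw [MonoidHom.map_closure, ← MonoidHom.range_eq_map, Subgroup.range_subtype, Set.image_union,
      ← Set.range_comp, ← Set.range_comp]
    rfl
  π := (MonoidHom.snd _ _).comp (R.pairs p q).subtype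
  π_X _ := rfl
  π_Y _ := rfl

variable [Finite K]

/-- `SL₂` inside `E`. -/
theorem exists_phi (hpq : p ≠ q) (hpk : p ≠ k) (hqk : q ≠ k) :
    ∃ φ : SpecialLinearGroup (Fin 2) K →* E,
      (∀ t, φ (up t) = R.x p q t) ∧ ∀ t, φ (low t) = R.x q p t := by
  set S := R.rk1 hpq hpk hqk
  let e := MulEquiv.ofBijective S.π S.π_bijective
  refine ⟨((MonoidHom.fst _ _).comp (R.pairs p q).subtype).comp e.symm.toMonoidHom,
    fun t => ?_, fun t => ?_⟩
  · show (e.symm (up t)).1.1 = _
    rw [show up t = e (S.X t) from rfl, e.symm_apply_apply]; rfl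
  · show (e.symm (low t)).1.1 = _
    rw [show low t = e (S.Y t) from rfl, e.symm_apply_apply]; rfl

/-! ### The action on vectors -/

/-- The action on vectors. -/
def act (g : E) (v : Fin n → K) : Fin n → K := (R.π g).1 *ᵥ v

theorem act_one (v : Fin n → K) : R.act 1 v = v := by simp [act]

theorem act_mul (g g' : E) (v : Fin n → K) : R.act (g * g') v = R.act g (R.act g' v) := by
  simp [act, Matrix.mulVec_mulVec]

theorem act_inv_act (g : E) (v : Fin n → K) : R.act g⁻¹ (R.act g v) = v := by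
  rw [← R.act_mul, inv_mul_cancel, R.act_one]

theorem act_act_inv (g : E) (v : Fin n → K) : R.act g (R.act g⁻¹ v) = v := by
  rw [← R.act_mul, mul_inv_cancel, R.act_one]

theorem act_x (h : i ≠ j) (t : K) (v : Fin n → K) (a : Fin n) :
    R.act (R.x i j t) v a = v a + if a = i then t * v j else 0 := by
  rw [act, R.π_x i j h]
  simp [Matrix.mulVec, dotProduct, Matrix.transvection, Matrix.one_apply, Matrix.single_apply,
    add_mul, Finset.sum_add_distrib, ite_and, eq_comm]

theorem act_ne_zero (g : E) {v : Fin n → K} (hv : v ≠ 0) : R.act g v ≠ 0 := fun e => hv (by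
  rw [← R.act_inv_act g v, e]; simp [act])

theorem π_surjective [Nontrivial (Fin n)] : Function.Surjective R.π := fun g => by
  induction g using CfsgLib.Linear.transvection_induction with
  | htransvec i j h c => exact ⟨R.x i j c, Subtype.ext (R.π_x i j h c)⟩
  | hmul A B hA hB =>
    obtain ⟨a, rfl⟩ := hA
    obtain ⟨b, rfl⟩ := hB
    exact ⟨a * b, map_mul _ _ _⟩

/-! ### Products in a commuting family -/

omit [Finite K] in
theorem list_prod_add {ι : Type*} {f : ι → K → E} (hadd : ∀ a t u, f a (t + u) = f a t * f a u)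
    (hcomm : ∀ a b t u, Commute (f a t) (f b u)) (c d : ι → K) (L : List ι) :
    (L.map fun a => f a (c a + d a)).prod =
      (L.map fun a => f a (c a)).prod * (L.map fun a => f a (d a)).prod := by
  induction L with
  | nil => simp
  | cons a L ih =>
    rw [List.map_cons, List.map_cons, List.map_cons, List.prod_cons, List.prod_cons, List.prod_cons,
      ih, hadd]
    have : Commute (f a (d a)) (L.map fun b => f b (c b)).prod := by
      refine Commute.list_prod_right _ _ fun y hy => ?_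
      obtain ⟨b, -, rfl⟩ := List.mem_map.mp hy
      exact hcomm _ _ _ _
    rw [mul_assoc (f a (c a)) (List.map (fun b => f b (c b)) L).prod, ← mul_assoc _ (f a (d a)), ← this.eq]
    group

end StN

namespace StN

variable {K : Type*} [Field K] [Finite K] {m : ℕ} {E : Type*} [Group E] (R : StN K (m + 3) E)

/-- The products along the first row. -/
def rowP (c : Fin (m + 2) → K) : E :=
  ((List.finRange (m + 2)).map fun a => R.x 0 a.succ (c a)).prod

/-- The products along the first column. -/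
def colP (c : Fin (m + 2) → K) : E :=
  ((List.finRange (m + 2)).map fun a => R.x a.succ 0 (c a)).prod

theorem rowP_add (c d : Fin (m + 2) → K) : R.rowP (c + d) = R.rowP c * R.rowP d :=
  list_prod_add (f := fun a t => R.x 0 (Fin.succ a) t)
    (fun a t u => (R.add _ _ (Fin.succ_ne_zero a).symm t u).symm)
    (fun a b t u => R.x_comm (Fin.succ_ne_zero a).symm (Fin.succ_ne_zero b).symm
      (Fin.succ_ne_zero b).symm (Fin.succ_ne_zero a)) c d _

theorem colP_add (c d : Fin (m + 2) → K) : R.colP (c + d) = R.colP c * R.colP d :=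
  list_prod_add (f := fun a t => R.x (Fin.succ a) 0 t)
    (fun a t u => (R.add _ _ (Fin.succ_ne_zero a) t u).symm)
    (fun a b t u => R.x_comm (Fin.succ_ne_zero a) (Fin.succ_ne_zero b)
      (Fin.succ_ne_zero a) (Fin.succ_ne_zero b).symm) c d _

theorem rowP_single (a : Fin (m + 2)) (t : K) : R.rowP (Pi.single a t) = R.x 0 a.succ t := by
  rw [rowP, List.prod_map_eq_pow_single a _ fun b hb _ => by
    rw [Pi.single_eq_of_ne hb, R.x_zero (Fin.succ_ne_zero b).symm], Pi.single_eq_same,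
    List.count_eq_one_of_mem (List.nodup_finRange _) (List.mem_finRange a), pow_one]

theorem colP_single (a : Fin (m + 2)) (t : K) : R.colP (Pi.single a t) = R.x a.succ 0 t := by
  rw [colP, List.prod_map_eq_pow_single a _ fun b hb _ => by
    rw [Pi.single_eq_of_ne hb, R.x_zero (Fin.succ_ne_zero b)], Pi.single_eq_same,
    List.count_eq_one_of_mem (List.nodup_finRange _) (List.mem_finRange a), pow_one]

theorem rowP_zero : R.rowP 0 = 1 := by
  have e := R.rowP_add 0 0
  rw [add_zero] at e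
  exact mul_eq_left.mp e.symm

theorem colP_zero : R.colP 0 = 1 := by
  have e := R.colP_add 0 0
  rw [add_zero] at e
  exact mul_eq_left.mp e.symm

theorem act_colP (c : Fin (m + 2) → K) : ∀ v : Fin (m + 3) → K,
    R.act (R.colP c) v 0 = v 0 ∧ ∀ a, R.act (R.colP c) v (Fin.succ a) = v a.succ + c a * v 0 := by
  rw [← Finset.univ_sum_single c]
  refine Finset.sum_induction _ (fun c => ∀ v, R.act (R.colP c) v 0 = v 0 ∧
    ∀ a, R.act (R.colP c) v (Fin.succ a) = v a.succ + c a * v 0) ?_ ?_ ?_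
  · intro c d hc hd v
    rw [R.colP_add, R.act_mul]
    obtain ⟨h1, h2⟩ := hc (R.act (R.colP d) v)
    obtain ⟨h3, h4⟩ := hd v
    exact ⟨h1.trans h3, fun a => by rw [h2, h4, h3, Pi.add_apply]; ring⟩
  · intro v
    simp [R.colP_zero, R.act_one]
  · intro b _ v
    rw [R.colP_single]
    refine ⟨by rw [R.act_x (Fin.succ_ne_zero b), if_neg (Fin.succ_ne_zero b).symm, add_zero],
      fun a => ?_⟩
    rw [R.act_x (Fin.succ_ne_zero b)]
    by_cases h : a = b
    · subst h; simp
    · simp [h, Fin.succ_inj]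

theorem act_rowP (r : Fin (m + 2) → K) : ∀ v : Fin (m + 3) → K,
    R.act (R.rowP r) v 0 = v 0 + ∑ a, r a * v a.succ ∧
      ∀ a, R.act (R.rowP r) v (Fin.succ a) = v a.succ := by
  rw [← Finset.univ_sum_single r]
  refine Finset.sum_induction _ (fun r => ∀ v, R.act (R.rowP r) v 0 = v 0 + ∑ a, r a * v a.succ ∧
      ∀ a, R.act (R.rowP r) v (Fin.succ a) = v a.succ) ?_ ?_ ?_
  · intro c d hc hd v
    rw [R.rowP_add, R.act_mul]
    obtain ⟨h1, h2⟩ := hc (R.act (R.rowP d) v)
    obtain ⟨h3, h4⟩ := hd v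
    refine ⟨?_, fun a => (h2 a).trans (h4 a)⟩
    simp only [h1, h3, h4, Pi.add_apply, add_mul, Finset.sum_add_distrib]
    ring
  · intro v
    simp [R.rowP_zero, R.act_one]
  · intro b _ v
    rw [R.rowP_single]
    refine ⟨by
      rw [R.act_x (Fin.succ_ne_zero b).symm, if_pos rfl]
      simp [Pi.single_apply], fun a => ?_⟩
    rw [R.act_x (Fin.succ_ne_zero b).symm, if_neg (Fin.succ_ne_zero a), add_zero]

/-- The first row group. -/
def A : Subgroup E := Subgroup.closure {g | ∃ (a : Fin (m + 2)) (t : K), g = R.x 0 a.succ t}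

/-- The first column group. -/
def B : Subgroup E := Subgroup.closure {g | ∃ (a : Fin (m + 2)) (t : K), g = R.x a.succ 0 t}

/-- The subgroup of the last coordinates. -/
def L : Subgroup E :=
  Subgroup.closure {g | ∃ (a b : Fin (m + 2)) (t : K), a ≠ b ∧ g = R.x a.succ b.succ t}

/-- The stabiliser. -/
def M : Subgroup E :=
  Subgroup.closure {g | ∃ (i j : Fin (m + 3)) (t : K), i ≠ j ∧ j ≠ 0 ∧ g = R.x i j t}

theorem rowP_mem (r : Fin (m + 2) → K) : R.rowP r ∈ R.A :=
  list_prod_mem fun g hg => by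
    obtain ⟨a, -, rfl⟩ := List.mem_map.mp hg
    exact Subgroup.subset_closure ⟨a, _, rfl⟩

theorem colP_mem (c : Fin (m + 2) → K) : R.colP c ∈ R.B :=
  list_prod_mem fun g hg => by
    obtain ⟨a, -, rfl⟩ := List.mem_map.mp hg
    exact Subgroup.subset_closure ⟨a, _, rfl⟩

theorem exists_rowP {g : E} (hg : g ∈ R.A) : ∃ r, g = R.rowP r := by
  induction hg using Subgroup.closure_induction with
  | mem g hg => obtain ⟨a, t, rfl⟩ := hg; exact ⟨_, (R.rowP_single a t).symm⟩
  | one => exact ⟨0, R.rowP_zero.symm⟩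
  | mul a b _ _ ha hb =>
    obtain ⟨r, rfl⟩ := ha; obtain ⟨s, rfl⟩ := hb; exact ⟨r + s, (R.rowP_add r s).symm⟩
  | inv a _ ha =>
    obtain ⟨r, rfl⟩ := ha
    exact ⟨-r, inv_eq_of_mul_eq_one_right (by rw [← R.rowP_add, add_neg_cancel, R.rowP_zero])⟩

theorem exists_colP {g : E} (hg : g ∈ R.B) : ∃ c, g = R.colP c := by
  induction hg using Subgroup.closure_induction with
  | mem g hg => obtain ⟨a, t, rfl⟩ := hg; exact ⟨_, (R.colP_single a t).symm⟩
  | one => exact ⟨0, R.colP_zero.symm⟩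
  | mul a b _ _ ha hb =>
    obtain ⟨r, rfl⟩ := ha; obtain ⟨s, rfl⟩ := hb; exact ⟨r + s, (R.colP_add r s).symm⟩
  | inv a _ ha =>
    obtain ⟨r, rfl⟩ := ha
    exact ⟨-r, inv_eq_of_mul_eq_one_right (by rw [← R.colP_add, add_neg_cancel, R.colP_zero])⟩

theorem A_le_M : R.A ≤ R.M := Subgroup.closure_mono (by
  rintro _ ⟨a, t, rfl⟩
  exact ⟨0, a.succ, t, (Fin.succ_ne_zero a).symm, Fin.succ_ne_zero a, rfl⟩)

theorem L_le_M : R.L ≤ R.M := Subgroup.closure_mono (by
  rintro _ ⟨a, b, t, h, rfl⟩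
  exact ⟨a.succ, b.succ, t, fun e => h (Fin.succ_inj.mp e), Fin.succ_ne_zero b, rfl⟩)

omit [Finite K] in
theorem cj_mem_closure {S : Set E} {g : E} {H : Subgroup E} (h : ∀ y ∈ S, cj g y ∈ H) {x : E}
    (hx : x ∈ Subgroup.closure S) : cj g x ∈ H := by
  have : Subgroup.closure S ≤ H.comap (MulAut.conj g).toMonoidHom :=
    (Subgroup.closure_le _).mpr fun y hy => h y hy
  exact this hx

theorem L_cj {l : E} (hl : l ∈ R.L) :
    (∀ a ∈ R.A, cj l a ∈ R.A) ∧ ∀ b ∈ R.B, cj l b ∈ R.B := by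
  have gen : ∀ (a b : Fin (m + 2)) (t : K), a ≠ b →
      (∀ y ∈ R.A, cj (R.x a.succ b.succ t) y ∈ R.A) ∧
      ∀ y ∈ R.B, cj (R.x a.succ b.succ t) y ∈ R.B := by
    intro a b t hab
    have hab' : a.succ ≠ b.succ := fun e => hab (Fin.succ_inj.mp e)
    constructor
    · refine fun y hy => cj_mem_closure ?_ hy
      rintro _ ⟨c, u, rfl⟩
      by_cases hca : c = a
      · subst hca
        rw [R.cj_near₂ (Fin.succ_ne_zero c).symm hab' (Fin.succ_ne_zero b).symm]
        exact mul_mem (Subgroup.subset_closure ⟨b, _, rfl⟩) (Subgroup.subset_closure ⟨c, _, rfl⟩)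
      · rw [R.cj_far hab' (Fin.succ_ne_zero c).symm (fun e => hca (Fin.succ_inj.mp e).symm)
          (Fin.succ_ne_zero b)]
        exact Subgroup.subset_closure ⟨c, _, rfl⟩
    · refine fun y hy => cj_mem_closure ?_ hy
      rintro _ ⟨c, u, rfl⟩
      by_cases hcb : c = b
      · subst hcb
        rw [R.cj_near₁ hab' (Fin.succ_ne_zero c) (Fin.succ_ne_zero a)]
        exact mul_mem (Subgroup.subset_closure ⟨a, _, rfl⟩) (Subgroup.subset_closure ⟨c, _, rfl⟩)
      · rw [R.cj_far hab' (Fin.succ_ne_zero c) (Fin.succ_ne_zero a)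
          (fun e => hcb (Fin.succ_inj.mp e).symm)]
        exact Subgroup.subset_closure ⟨c, _, rfl⟩
  refine Subgroup.closure_induction_left (p := fun l _ =>
    (∀ a ∈ R.A, cj l a ∈ R.A) ∧ ∀ b ∈ R.B, cj l b ∈ R.B) ?_ ?_ ?_ hl
  · simp [cj]
  · rintro _ ⟨a, b, t, hab, rfl⟩ z _ ⟨h1, h2⟩
    exact ⟨fun y hy => by rw [cj_cj]; exact (gen a b t hab).1 _ (h1 y hy),
      fun y hy => by rw [cj_cj]; exact (gen a b t hab).2 _ (h2 y hy)⟩
  · rintro _ ⟨a, b, t, hab, rfl⟩ z _ ⟨h1, h2⟩
    rw [R.x_inv (fun e => hab (Fin.succ_inj.mp e))]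
    exact ⟨fun y hy => by rw [cj_cj]; exact (gen a b _ hab).1 _ (h1 y hy),
      fun y hy => by rw [cj_cj]; exact (gen a b _ hab).2 _ (h2 y hy)⟩

theorem M_eq {g : E} (hg : g ∈ R.M) : ∃ a ∈ R.A, ∃ l ∈ R.L, g = a * l := by
  induction hg using Subgroup.closure_induction with
  | mem g hg =>
    obtain ⟨i, j, t, hij, hj, rfl⟩ := hg
    obtain ⟨b, rfl⟩ := Fin.exists_succ_eq.mpr hj
    by_cases hi : i = 0
    · subst hi
      exact ⟨_, Subgroup.subset_closure ⟨b, t, rfl⟩, 1, one_mem _, (mul_one _).symm⟩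
    · obtain ⟨a, rfl⟩ := Fin.exists_succ_eq.mpr hi
      exact ⟨1, one_mem _, _, Subgroup.subset_closure ⟨a, b, t, fun e => hij (by rw [e]), rfl⟩,
        (one_mul _).symm⟩
  | one => exact ⟨1, one_mem _, 1, one_mem _, (mul_one _).symm⟩
  | mul x y _ _ hx hy =>
    obtain ⟨a, ha, l, hl, rfl⟩ := hx
    obtain ⟨a', ha', l', hl', rfl⟩ := hy
    exact ⟨a * cj l a', mul_mem ha ((R.L_cj hl).1 a' ha'), l * l', mul_mem hl hl', by rw [cj]; group⟩
  | inv x _ hx =>
    obtain ⟨a, ha, l, hl, rfl⟩ := hx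
    exact ⟨cj l⁻¹ a⁻¹, (R.L_cj (inv_mem hl)).1 _ (inv_mem ha), l⁻¹, inv_mem hl, by rw [cj]; group⟩

/-- Vectors with zero first coordinate. -/
def tail0 (c : Fin (m + 2) → K) : Fin (m + 3) → K := Fin.cases 0 c

theorem act_L {l : E} (hl : l ∈ R.L) : (∀ v, R.act l v 0 = v 0) ∧
    R.act l (Pi.single 0 1) = Pi.single 0 1 := by
  induction hl using Subgroup.closure_induction with
  | mem g hg =>
    obtain ⟨a, b, t, hab, rfl⟩ := hg
    have hab' : a.succ ≠ b.succ := fun e => hab (Fin.succ_inj.mp e)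
    refine ⟨fun v => by rw [R.act_x hab', if_neg (Fin.succ_ne_zero a).symm, add_zero], ?_⟩
    funext k
    rw [R.act_x hab', Pi.single_eq_of_ne (Fin.succ_ne_zero b)]
    simp
  | one => simp [R.act_one]
  | mul a b _ _ ha hb =>
    exact ⟨fun v => by rw [R.act_mul, ha.1, hb.1], by rw [R.act_mul, hb.2, ha.2]⟩
  | inv a _ ha =>
    refine ⟨fun v => ?_, ?_⟩
    · have := ha.1 (R.act a⁻¹ v)
      rwa [R.act_act_inv, eq_comm] at this
    · conv_lhs => rw [← ha.2]
      rw [R.act_inv_act]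

/-- The coset of the stabiliser of a vector with non-zero first coordinate. -/
def Φ₀ (v : Fin (m + 3) → K) : E ⧸ R.M :=
  ((R.colP fun a => v a.succ / v 0) * (R.w 0 1 (v 0) * R.w 0 1 (-1)) : E)

theorem h_one : R.w 0 1 (1 : K) * R.w 0 1 (-1) = 1 := by
  rw [← R.w_inv (by simp) 1, mul_inv_cancel]

theorem Φ₀_single : R.Φ₀ (Pi.single 0 1) = ((1 : E) : E ⧸ R.M) := by
  rw [Φ₀, show (fun a : Fin (m + 2) => (Pi.single 0 1 : Fin (m + 3) → K) a.succ /
    (Pi.single 0 1 : Fin (m + 3) → K) 0) = 0 by funext a; simp, R.colP_zero, one_mul,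
    Pi.single_eq_same, R.h_one]

theorem two_ne : (0 : Fin (m + 3)) ≠ 2 ∧ (1 : Fin (m + 3)) ≠ 2 := by
  constructor <;> intro e <;> simp [Fin.ext_iff] at e <;>
    rw [Nat.mod_eq_of_lt (by omega)] at e <;> omega

theorem ww_normal {s t : K} (hs : s ≠ 0) (ht : t ≠ 0) {y : E} (hy : y ∈ R.M) :
    cj (R.w 0 1 s * R.w 0 1 t) y ∈ R.M := by
  refine cj_mem_closure ?_ hy
  rintro _ ⟨i, j, u, hij, hj, rfl⟩
  rw [cj_cj]
  have h01 : (0 : Fin (m + 3)) ≠ 1 := by simp
  have h2 := two_ne (m := m)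
  have mem : ∀ (i j : Fin (m + 3)) (u : K), i ≠ j → j ≠ 0 → R.x i j u ∈ R.M := fun i j u h h' =>
    Subgroup.subset_closure ⟨i, j, u, h, h', rfl⟩
  by_cases hi0 : i = 0
  · subst hi0
    by_cases hj1 : j = 1
    · subst hj1
      rw [R.cj_w_pq h01 h2.1 h2.2 ht, R.cj_w_qp h01 h2.1 h2.2 hs]
      exact mem _ _ _ h01 h01.symm
    · rw [R.cj_w_pk h01 hij (Ne.symm hj1) ht, R.cj_w_qk h01 hij (Ne.symm hj1) hs]
      exact mem _ _ _ hij hj
  by_cases hi1 : i = 1
  · subst hi1
    rw [R.cj_w_qk h01 hj.symm hij ht, R.cj_w_pk h01 hj.symm hij hs]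
    exact mem _ _ _ hij hj
  by_cases hj1 : j = 1
  · subst hj1
    rw [R.cj_w_kq h01 (Ne.symm hi0) (Ne.symm hi1) ht, R.cj_w_kp h01 (Ne.symm hi0) (Ne.symm hi1) hs]
    exact mem _ _ _ hij hj
  · have far : ∀ r : K, cj (R.w 0 1 r) (R.x i j u) = R.x i j u := fun r => by
      rw [StN.w, cj_cj, cj_cj, R.cj_far h01 hij hj.symm (Ne.symm hi1),
        R.cj_far h01.symm hij (Ne.symm hj1) (Ne.symm hi0), R.cj_far h01 hij hj.symm (Ne.symm hi1)]
    rw [far, far]
    exact mem _ _ _ hij hj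

/-- The elements respecting the cosets of vectors with non-zero first coordinate. -/
def Eq₀ : Subgroup E where
  carrier := {g | (∀ v, R.act g v 0 = v 0) ∧ ∀ v, v 0 ≠ 0 → g • R.Φ₀ v = R.Φ₀ (R.act g v)}
  one_mem' := ⟨fun v => by rw [R.act_one], fun v _ => by rw [R.act_one, one_smul]⟩
  mul_mem' {a b} ha hb := ⟨fun v => by rw [R.act_mul, ha.1, hb.1], fun v hv => by
    rw [mul_smul, hb.2 v hv, ha.2 _ (by rw [hb.1]; exact hv), R.act_mul]⟩
  inv_mem' {a} ha := by
    have h0 : ∀ v, R.act a⁻¹ v 0 = v 0 := fun v => by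
      have := ha.1 (R.act a⁻¹ v); rwa [R.act_act_inv, eq_comm] at this
    refine ⟨h0, fun v hv => ?_⟩
    have := ha.2 (R.act a⁻¹ v) (by rw [h0]; exact hv)
    rw [R.act_act_inv] at this
    rw [← this, inv_smul_smul]

theorem B_le_Eq₀ : R.B ≤ R.Eq₀ := by
  intro g hg
  obtain ⟨c, rfl⟩ := R.exists_colP hg
  refine ⟨fun v => (R.act_colP c v).1, fun v hv => ?_⟩
  simp only [Φ₀, (R.act_colP c v).1, (R.act_colP c v).2, MulAction.Quotient.smul_coe, smul_eq_mul,
    ← mul_assoc, ← R.colP_add]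
  congr 3
  refine congrArg R.colP (funext fun a => ?_)
  simp only [Pi.add_apply]
  field_simp
  ring

theorem L_le_Eq₀ : R.L ≤ R.Eq₀ := by
  intro l hl
  refine ⟨(R.act_L hl).1, fun v hv => ?_⟩
  obtain ⟨d, hd⟩ := R.exists_colP ((R.L_cj hl).2 _ (R.colP_mem fun a => v a.succ / v 0))
  have hda : ∀ a, d a = R.act l v (Fin.succ a) / R.act l v 0 := by
    intro a
    have e := congrArg (fun g => R.act g (Pi.single 0 1) a.succ) hd
    simp only [(R.act_colP d _).2, cj, R.act_mul, (R.act_L (inv_mem hl)).2, Pi.single_eq_same,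
      Pi.single_eq_of_ne (Fin.succ_ne_zero a), zero_add, mul_one] at e
    rw [← e, (R.act_L hl).1]
    have hv' : R.act (R.colP fun a => v a.succ / v 0) (Pi.single 0 1) = (v 0)⁻¹ • v := by
      funext k
      refine Fin.cases ?_ (fun a => ?_) k
      · rw [(R.act_colP _ _).1]; simp [hv]
      · rw [(R.act_colP _ _).2]; simp [div_eq_inv_mul]
    rw [hv', show R.act l ((v 0)⁻¹ • v) = (v 0)⁻¹ • R.act l v from Matrix.mulVec_smul _ _ _,
      Pi.smul_apply, smul_eq_mul, div_eq_inv_mul]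
  have hd' : R.colP (fun a => R.act l v (Fin.succ a) / R.act l v 0) =
      l * R.colP (fun a => v a.succ / v 0) * l⁻¹ := by rw [← funext hda]; exact hd.symm
  simp only [Φ₀, MulAction.Quotient.smul_coe, smul_eq_mul]
  rw [hd', (R.act_L hl).1, QuotientGroup.eq]
  have := R.ww_normal (s := 1) (t := -(v 0)) one_ne_zero (neg_ne_zero.mpr hv)
    (inv_mem (R.L_le_M hl))
  rw [show R.w 0 1 (1 : K) = (R.w 0 1 (-1))⁻¹ by rw [R.w_inv (by simp), neg_neg],
    ← R.w_inv (by simp) (v 0), ← _root_.mul_inv_rev] at this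
  convert this using 1
  simp only [cj]
  group

theorem x_mem_Eq₀ {i j : Fin (m + 3)} (hi : i ≠ 0) (hij : i ≠ j) (t : K) : R.x i j t ∈ R.Eq₀ := by
  obtain ⟨a, rfl⟩ := Fin.exists_succ_eq.mpr hi
  by_cases hj : j = 0
  · subst hj; exact R.B_le_Eq₀ (Subgroup.subset_closure ⟨a, t, rfl⟩)
  · obtain ⟨b, rfl⟩ := Fin.exists_succ_eq.mpr hj
    exact R.L_le_Eq₀ (Subgroup.subset_closure ⟨a, b, t, fun e => hij (by rw [e]), rfl⟩)

theorem row_zero_good (t : K) (v : Fin (m + 3) → K) (hv : v 0 ≠ 0)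
    (hv' : R.act (R.rowP (Pi.single 0 t)) v 0 ≠ 0) :
    R.rowP (Pi.single 0 t) • R.Φ₀ v = R.Φ₀ (R.act (R.rowP (Pi.single 0 t)) v) := by
  obtain ⟨o, ho₀⟩ : ∃ o : Fin (m + 2), o = 0 := ⟨0, rfl⟩
  have ho : o.succ = (1 : Fin (m + 3)) := by rw [ho₀]; rfl
  rw [← ho₀] at hv' ⊢
  rw [R.rowP_single] at hv' ⊢
  set g : E := R.x 0 (o.succ) t with hg
  set c : Fin (m + 2) → K := fun a => if a = o then 0 else v a.succ / v 0 with hc
  set v₂ : Fin (m + 3) → K := fun k => if k = 0 then v 0 else if k = o.succ then v k else 0 with hv₂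
  have hv₂0 : v₂ 0 = v 0 := by simp [hv₂]
  have hv₂1 : v₂ (o.succ) = v (o.succ) := by simp [hv₂]
  have hev : R.act (R.colP c) v₂ = v := by
    funext k
    refine Fin.cases ?_ (fun a => ?_) k
    · rw [(R.act_colP _ _).1, hv₂0]
    · rw [(R.act_colP _ _).2, hv₂0]
      by_cases ha : a = o
      · rw [ha]; simp [hc, hv₂1]
      · simp only [hc, if_neg ha, hv₂, Fin.succ_inj, Fin.succ_ne_zero, if_false, zero_add]
        field_simp
  have hcB : R.colP c ∈ R.Eq₀ := R.B_le_Eq₀ (R.colP_mem c)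
  have hconj : cj g (R.colP c) ∈ R.Eq₀ := by
    have hmem : R.colP c ∈ Subgroup.closure
        {y | ∃ (a : Fin (m + 2)) (u : K), a ≠ o ∧ y = R.x a.succ 0 u} := by
      refine list_prod_mem fun y hy => ?_
      obtain ⟨a, -, rfl⟩ := List.mem_map.mp hy
      by_cases ha : a = o
      · rw [ha]
        simp only [hc, if_true]
        rw [R.x_zero (Fin.succ_ne_zero o)]
        exact one_mem _
      · exact Subgroup.subset_closure ⟨a, _, ha, rfl⟩
    refine cj_mem_closure ?_ hmem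
    rintro _ ⟨a, u, ha, rfl⟩
    have ha' : a.succ ≠ o.succ := fun e => ha (Fin.succ_inj.mp e)
    rw [hg, R.cj_near₂ (Fin.succ_ne_zero a) (Fin.succ_ne_zero o).symm ha']
    exact mul_mem (R.x_mem_Eq₀ (Fin.succ_ne_zero a) ha' _)
      (R.x_mem_Eq₀ (Fin.succ_ne_zero a) (Fin.succ_ne_zero a) _)
  have h01 : (0 : Fin (m + 3)) ≠ o.succ := (Fin.succ_ne_zero o).symm
  have hact₂ : R.act g v₂ 0 = v 0 + t * v (o.succ) := by
    rw [hg, R.act_x h01, if_pos rfl, hv₂0, hv₂1]
  have hne : v 0 + t * v (o.succ) ≠ 0 := by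
    rwa [hg, R.act_x h01, if_pos rfl] at hv'
  have core : g • R.Φ₀ v₂ = R.Φ₀ (R.act g v₂) := by
    obtain ⟨φ, φu, φl⟩ := R.exists_phi (p := (0 : Fin (m + 3))) (q := o.succ) (k := 2) h01
      (two_ne (m := m)).1 (by rw [ho]; exact (two_ne (m := m)).2)
    set a := v 0
    set b := v (o.succ)
    have hcol : ∀ r : K, R.colP (Pi.single o r) = φ (low r) := fun r => by
      rw [φl, R.colP_single]
    have e1 : (fun i : Fin (m + 2) => v₂ i.succ / v₂ 0) = Pi.single o (b / a) := by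
      funext i
      by_cases hi : i = o
      · rw [hi]; simp [hv₂0, hv₂1, a, b]
      · simp [hv₂, hi, Fin.succ_inj, Fin.succ_ne_zero]
    have e2 : (fun i : Fin (m + 2) => R.act g v₂ i.succ / R.act g v₂ 0) =
        Pi.single o (b / (a + t * b)) := by
      funext i
      rw [hact₂, hg, R.act_x h01, if_neg (Fin.succ_ne_zero i), add_zero]
      by_cases hi : i = o
      · rw [hi]; simp [hv₂1, a, b]
      · simp [hv₂, hi, Fin.succ_inj, Fin.succ_ne_zero]
    have hw : ∀ r : K, R.w 0 1 r = φ (up r * low (-r⁻¹) * up r) := fun r => by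
      rw [map_mul, map_mul, φu, φl, ← ho]; rfl
    simp only [Φ₀, MulAction.Quotient.smul_coe, smul_eq_mul]
    rw [e1, e2, hact₂, hv₂0, hcol, hcol, hw, hw, hw, hg, ← φu]
    simp only [← map_mul]
    rw [QuotientGroup.eq, ← map_inv, ← map_mul]
    have key : (up t * (low (b / a) * (up a * low (-a⁻¹) * up a * (up (-1) * low (-(-1 : K)⁻¹) * up (-1)))))⁻¹ *
        (low (b / (a + t * b)) * (up (a + t * b) * low (-(a + t * b)⁻¹) * up (a + t * b) *
          (up (-1) * low (-(-1 : K)⁻¹) * up (-1)))) = up (-(t / (a * (a + t * b)))) := by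
      rw [inv_mul_eq_iff_eq_mul]
      refine Subtype.ext ?_
      show (low _).1 * ((up _).1 * (low _).1 * (up _).1 * ((up _).1 * (low _).1 * (up _).1)) =
        (up _).1 * ((low _).1 * ((up _).1 * (low _).1 * (up _).1 * ((up _).1 * (low _).1 * (up _).1))) *
          (up _).1
      have ha : a ≠ 0 := hv
      have hab : a + t * b ≠ 0 := hne
      have hd : ∀ r : K, r ≠ 0 → (up r).1 * (low (-r⁻¹)).1 * (up r).1 *
          ((up (-1 : K)).1 * (low (-(-1 : K)⁻¹)).1 * (up (-1 : K)).1) = !![r, 0; 0, r⁻¹] := by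
        intro r hr
        ext i j
        fin_cases i <;> fin_cases j <;>
          simp [up, low, Matrix.mul_apply, Fin.sum_univ_two] <;> field_simp <;> (try ring_nf) <;> simp
      rw [hd _ ha, hd _ hab]
      ext i j
      fin_cases i <;> fin_cases j <;>
        simp [up, low, Matrix.mul_apply, Fin.sum_univ_two] <;> field_simp <;> (try ring_nf) <;> (try simp) <;> (try field_simp [show b * t + a ≠ 0 by rwa [add_comm, mul_comm]]) <;> (try ring)
    rw [key, φu]
    exact R.A_le_M (Subgroup.subset_closure ⟨o, _, rfl⟩)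
  have e : g * R.colP c = cj g (R.colP c) * g := by simp [cj, mul_assoc]
  conv_lhs => rw [← hev]
  rw [← hcB.2 v₂ (hv₂0 ▸ hv), ← mul_smul, e, mul_smul, core,
    hconj.2 _ (by rw [hact₂]; exact hne), ← R.act_mul, ← e, R.act_mul, hev]

theorem row_good (r : Fin (m + 2) → K) (v : Fin (m + 3) → K) (hv : v 0 ≠ 0)
    (hv' : R.act (R.rowP r) v 0 ≠ 0) :
    R.rowP r • R.Φ₀ v = R.Φ₀ (R.act (R.rowP r) v) := by
  -- the good rows are invariant under column operations
  set P : (Fin (m + 2) → K) → Prop := fun r => ∀ v : Fin (m + 3) → K, v 0 ≠ 0 →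
    R.act (R.rowP r) v 0 ≠ 0 → R.rowP r • R.Φ₀ v = R.Φ₀ (R.act (R.rowP r) v) with hP
  have move : ∀ (r : Fin (m + 2) → K) (a b : Fin (m + 2)) (s : K), a ≠ b → P r →
      P (r + Pi.single b (s * r a)) := by
    intro r a b s hab hr
    have hab' : a.succ ≠ b.succ := fun e => hab (Fin.succ_inj.mp e)
    set l := R.x a.succ b.succ (-s) with hl
    have hlE : l ∈ R.Eq₀ := R.x_mem_Eq₀ (Fin.succ_ne_zero a) hab' _
    have hlL : l ∈ R.L := Subgroup.subset_closure ⟨a, b, _, hab, rfl⟩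
    have e : R.rowP (r + Pi.single b (s * r a)) = cj l (R.rowP r) := by
      obtain ⟨d, hd⟩ := R.exists_rowP ((R.L_cj hlL).1 _ (R.rowP_mem r))
      rw [hd]
      congr 1
      funext c
      have e := congrArg (fun g => R.act g (Pi.single c.succ 1) 0) hd
      simp only [(R.act_rowP d _).1, cj, R.act_mul, (R.act_L hlL).1, (R.act_rowP r _).1,
        Pi.single_eq_of_ne (Fin.succ_ne_zero c).symm, zero_add, hl, R.x_inv hab', neg_neg,
        R.act_x hab', if_neg (Fin.succ_ne_zero a).symm, add_zero, Fin.succ_inj] at e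
      simp [Pi.single_apply, Fin.succ_inj, mul_add, Finset.sum_add_distrib] at e
      rw [← e, Pi.add_apply, Pi.single_apply]
      by_cases hcb : c = b
      · subst hcb; simp; ring
      · simp [hcb, Ne.symm hcb]
    intro v hv hv'
    rw [e] at hv' ⊢
    set w := R.act l⁻¹ v
    have hw : w 0 ≠ 0 := by show R.act l⁻¹ v 0 ≠ 0; rw [(inv_mem hlE : l⁻¹ ∈ R.Eq₀).1]; exact hv
    have hw' : R.act (R.rowP r) w 0 ≠ 0 := by
      rwa [cj, R.act_mul, R.act_mul, hlE.1] at hv'
    rw [cj, mul_smul, mul_smul, (inv_mem hlE : l⁻¹ ∈ R.Eq₀).2 v hv, hr w hw hw', hlE.2 _ hw',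
      R.act_mul, R.act_mul]
  have h0 : P 0 := fun v _ _ => by rw [R.rowP_zero, one_smul, R.act_one]
  have hfull : ∀ r : Fin (m + 2) → K, r 0 ≠ 0 → P r := by
    intro r hr
    have : ∀ S : Finset (Fin (m + 2)), P fun c => if c = 0 ∨ c ∈ S then r c else 0 := by
      intro S
      induction S using Finset.induction_on with
      | empty =>
        have e : (fun c => if c = 0 ∨ c ∈ (∅ : Finset (Fin (m + 2))) then r c else 0) =
            Pi.single 0 (r 0) := by
          funext c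
          by_cases hc : c = 0
          · subst hc; simp
          · simp [hc]
        rw [e]
        exact fun v hv hv' => R.row_zero_good (r 0) v hv hv'
      | insert b S hb ih =>
        by_cases hb0 : b = 0
        · convert ih using 2 with c
          simp [hb0]
        · convert move _ 0 b (r b / r 0) (Ne.symm hb0) ih using 1
          funext c
          by_cases hcb : c = b
          · subst hcb
            simp [hb0, hb]
            field_simp
          · simp [hcb]
    simpa using this Finset.univ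
  by_cases hr0 : r 0 = 0
  · by_cases hr : r = 0
    · subst hr; exact h0 v hv hv'
    · obtain ⟨k, hk⟩ := Function.ne_iff.mp hr
      have hk0 : k ≠ 0 := fun e => hk (by rw [e]; exact hr0)
      have h1 := hfull (r + Pi.single 0 (r k)) (by simpa [hr0] using hk)
      have h2 := move _ k 0 (-1) hk0 h1
      have e : r + Pi.single 0 (r k) + Pi.single 0 (-1 * (r + Pi.single 0 (r k) : Fin (m + 2) → K) k) = r := by
        funext c
        by_cases hc : c = 0
        · subst hc; simp [hk0]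
        · simp [hc]
      rw [e] at h2
      exact h2 v hv hv'
  · exact hfull r hr0 v hv hv'

open Classical in
/-- The coset of a non-zero vector. -/
noncomputable def Φ (v : Fin (m + 3) → K) : E ⧸ R.M :=
  if h : ∃ r, R.act (R.rowP r) v 0 ≠ 0 then
    (R.rowP h.choose)⁻¹ • R.Φ₀ (R.act (R.rowP h.choose) v)
  else R.Φ₀ v

theorem Φ_eq {v : Fin (m + 3) → K} (r : Fin (m + 2) → K) (hr : R.act (R.rowP r) v 0 ≠ 0) :
    R.Φ v = (R.rowP r)⁻¹ • R.Φ₀ (R.act (R.rowP r) v) := by
  have h : ∃ r, R.act (R.rowP r) v 0 ≠ 0 := ⟨r, hr⟩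
  rw [Φ, dif_pos h]
  have hs := h.choose_spec
  set s := h.choose
  have e : R.rowP s = R.rowP (s - r) * R.rowP r := by rw [← R.rowP_add, sub_add_cancel]
  rw [e, R.act_mul, ← R.row_good _ _ hr (by rw [← R.act_mul, ← e]; exact hs), _root_.mul_inv_rev,
    mul_smul, inv_smul_smul]

theorem Φ_eq₀ {v : Fin (m + 3) → K} (hv : v 0 ≠ 0) : R.Φ v = R.Φ₀ v := by
  rw [R.Φ_eq 0 (by rwa [R.rowP_zero, R.act_one]), R.rowP_zero, R.act_one, inv_one, one_smul]

theorem exists_row {v : Fin (m + 3) → K} (hv : v ≠ 0) : ∃ r, R.act (R.rowP r) v 0 ≠ 0 := by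
  by_cases h0 : v 0 = 0
  · obtain ⟨k, hk⟩ := Function.ne_iff.mp hv
    obtain ⟨a, rfl⟩ := Fin.exists_succ_eq.mpr (fun e : k = 0 => hk (e ▸ h0))
    refine ⟨Pi.single a 1, ?_⟩
    rw [(R.act_rowP _ _).1, h0]
    simpa [Pi.single_apply] using hk
  · exact ⟨0, by rwa [R.rowP_zero, R.act_one]⟩

theorem A_equivariant {g : E} (hg : g ∈ R.A) {v : Fin (m + 3) → K} (hv : v ≠ 0) :
    g • R.Φ v = R.Φ (R.act g v) := by
  obtain ⟨r, rfl⟩ := R.exists_rowP hg
  obtain ⟨s, hs⟩ := R.exists_row hv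
  have e : R.rowP (s - r) * R.rowP r = R.rowP s := by rw [← R.rowP_add, sub_add_cancel]
  rw [R.Φ_eq s hs, R.Φ_eq (v := R.act (R.rowP r) v) (s - r) (by rw [← R.act_mul, e]; exact hs),
    ← R.act_mul, e, ← mul_smul]
  congr 1
  rw [← e]; group

theorem L_equivariant {l : E} (hl : l ∈ R.L) {v : Fin (m + 3) → K} (hv : v ≠ 0) :
    l • R.Φ v = R.Φ (R.act l v) := by
  obtain ⟨s, hs⟩ := R.exists_row hv
  obtain ⟨d, hd⟩ := R.exists_rowP ((R.L_cj hl).1 _ (R.rowP_mem s))
  have e : R.rowP d * l = l * R.rowP s := by rw [← hd, cj]; group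
  have hne : R.act (R.rowP d) (R.act l v) 0 ≠ 0 := by
    rw [← R.act_mul, e, R.act_mul, (R.act_L hl).1]; exact hs
  rw [R.Φ_eq s hs, R.Φ_eq d hne, ← R.act_mul, e, R.act_mul, ← (R.L_le_Eq₀ hl).2 _ hs, ← mul_smul,
    ← mul_smul]
  congr 1
  rw [← hd, cj]; group

theorem x_col_equivariant (i : Fin (m + 2)) (t : K) {v : Fin (m + 3) → K} (hv : v ≠ 0) :
    R.x i.succ 0 t • R.Φ v = R.Φ (R.act (R.x i.succ 0 t) v) := by
  have hE : R.x i.succ 0 t ∈ R.Eq₀ := R.x_mem_Eq₀ (Fin.succ_ne_zero i) (Fin.succ_ne_zero i) t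
  by_cases h0 : v 0 ≠ 0
  · rw [R.Φ_eq₀ h0, hE.2 v h0, R.Φ_eq₀ (by rw [hE.1]; exact h0)]
  push Not at h0
  have hfix : ∀ (k : Fin (m + 2)) (s : K), R.act (R.x k.succ 0 s) v = v := fun k s => by
    funext a; rw [R.act_x (Fin.succ_ne_zero k), h0]; simp
  by_cases hk : ∃ k : Fin (m + 2), k ≠ i ∧ v k.succ ≠ 0
  · obtain ⟨k, hki, hvk⟩ := hk
    have hki' : i.succ ≠ k.succ := fun e => hki (Fin.succ_inj.mp e).symm
    set g := R.x 0 k.succ 1 with hg
    have hgr : g = R.rowP (Pi.single k 1) := (R.rowP_single k 1).symm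
    have hne : R.act g v 0 ≠ 0 := by
      rw [hg, R.act_x (Fin.succ_ne_zero k).symm, if_pos rfl, h0, one_mul, zero_add]; exact hvk
    have hc : cj g (R.x i.succ 0 t) ∈ R.Eq₀ := by
      rw [hg, R.cj_near₂ (Fin.succ_ne_zero i) (Fin.succ_ne_zero k).symm hki']
      exact mul_mem (R.x_mem_Eq₀ (Fin.succ_ne_zero i) hki' _) hE
    have e : g * R.x i.succ 0 t = cj g (R.x i.succ 0 t) * g := by simp [cj, mul_assoc]
    have hΦ : R.Φ v = g⁻¹ • R.Φ₀ (R.act g v) := by rw [hgr]; exact R.Φ_eq _ (hgr ▸ hne)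
    have hfix2 : R.act (cj g (R.x i.succ 0 t)) (R.act g v) = R.act g v := by
      rw [← R.act_mul, ← e, R.act_mul, hfix]
    conv_rhs => rw [hfix, hΦ, ← hfix2, ← hc.2 _ hne, ← mul_smul]
    rw [hΦ, ← mul_smul]
    congr 1
    rw [cj]; group
  · push Not at hk
    obtain ⟨k, hki⟩ : ∃ k : Fin (m + 2), k ≠ i := exists_ne i
    have hki' : i.succ ≠ k.succ := fun e => hki (Fin.succ_inj.mp e).symm
    have hvk := hk k hki
    have hl : ∀ s : K, R.x i.succ k.succ s • R.Φ v = R.Φ v := fun s => by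
      rw [R.L_equivariant (Subgroup.subset_closure ⟨i, k, s, Ne.symm hki, rfl⟩) hv]
      congr 1
      funext a; rw [R.act_x hki', hvk]; simp
    have hs : ∀ s : K, R.x k.succ 0 s • R.Φ v = R.Φ v := fun s => by
      have hki'' : k.succ ≠ i.succ := Ne.symm hki'
      have hvi : v i.succ ≠ 0 := fun e => hv (by
        funext a
        refine Fin.cases h0 (fun b => ?_) a
        by_cases hb : b = i
        · subst hb; exact e
        · exact hk b hb)
      set g := R.x 0 i.succ 1 with hg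
      have hgr : g = R.rowP (Pi.single i 1) := (R.rowP_single i 1).symm
      have hne : R.act g v 0 ≠ 0 := by
        rw [hg, R.act_x (Fin.succ_ne_zero i).symm, if_pos rfl, h0, one_mul, zero_add]; exact hvi
      have hc : cj g (R.x k.succ 0 s) ∈ R.Eq₀ := by
        rw [hg, R.cj_near₂ (Fin.succ_ne_zero k) (Fin.succ_ne_zero i).symm hki'']
        exact mul_mem (R.x_mem_Eq₀ (Fin.succ_ne_zero k) hki'' _)
          (R.x_mem_Eq₀ (Fin.succ_ne_zero k) (Fin.succ_ne_zero k) _)
      have e : g * R.x k.succ 0 s = cj g (R.x k.succ 0 s) * g := by simp [cj, mul_assoc]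
      have hΦ : R.Φ v = g⁻¹ • R.Φ₀ (R.act g v) := by rw [hgr]; exact R.Φ_eq _ (hgr ▸ hne)
      have hfix2 : R.act (cj g (R.x k.succ 0 s)) (R.act g v) = R.act g v := by
        rw [← R.act_mul, ← e, R.act_mul, hfix]
      conv_rhs => rw [hΦ, ← hfix2, ← hc.2 _ hne, ← mul_smul]
      rw [hΦ, ← mul_smul]
      congr 1
      rw [cj]; group
    rw [hfix, show R.x i.succ 0 t = R.x i.succ k.succ t * R.x k.succ 0 1 * (R.x i.succ k.succ t)⁻¹ *
      (R.x k.succ 0 1)⁻¹ by rw [R.near _ _ _ hki' (Fin.succ_ne_zero k) (Fin.succ_ne_zero i), mul_one],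
      R.x_inv hki', R.x_inv (Fin.succ_ne_zero k), mul_smul, mul_smul, mul_smul, hs, hl, hs, hl]

theorem equivariant (g : E) : ∀ v, v ≠ 0 → g • R.Φ v = R.Φ (R.act g v) := by
  have key : ∀ (i j : Fin (m + 3)), i ≠ j → ∀ (t : K) (v : Fin (m + 3) → K), v ≠ 0 →
      R.x i j t • R.Φ v = R.Φ (R.act (R.x i j t) v) := by
    intro i j hij t v hv
    by_cases hj : j = 0
    · subst hj
      obtain ⟨a, rfl⟩ := Fin.exists_succ_eq.mpr hij
      exact R.x_col_equivariant a t hv
    obtain ⟨b, rfl⟩ := Fin.exists_succ_eq.mpr hj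
    by_cases hi : i = 0
    · subst hi
      exact R.A_equivariant (Subgroup.subset_closure ⟨b, t, rfl⟩) hv
    · obtain ⟨a, rfl⟩ := Fin.exists_succ_eq.mpr hi
      exact R.L_equivariant (Subgroup.subset_closure ⟨a, b, t, fun e => hij (by rw [e]), rfl⟩) hv
  refine Subgroup.closure_induction_left (p := fun g _ => ∀ v, v ≠ 0 → g • R.Φ v = R.Φ (R.act g v))
    (fun v _ => by rw [one_smul, R.act_one]) ?_ ?_ (R.gen ▸ Subgroup.mem_top g)
  · rintro _ ⟨i, j, hij, t, rfl⟩ z _ ih v hv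
    rw [mul_smul, ih v hv, key i j hij t _ (R.act_ne_zero z hv), R.act_mul]
  · rintro _ ⟨i, j, hij, t, rfl⟩ z _ ih v hv
    rw [R.x_inv hij, mul_smul, ih v hv, key i j hij _ _ (R.act_ne_zero z hv), R.act_mul]

/-- The pairs of the subgroup of the last coordinates and their matrices. -/
def pairsL : Subgroup (E × SpecialLinearGroup (Fin (m + 2)) K) :=
  Subgroup.closure {z | ∃ (a b : Fin (m + 2)) (h : a ≠ b) (t : K),
    z = (R.x a.succ b.succ t, SpecialLinearGroup.transvection h t)}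

theorem pairsL_spec {z : E × SpecialLinearGroup (Fin (m + 2)) K} (hz : z ∈ R.pairsL)
    (v : Fin (m + 3) → K) : R.act z.1 v = Fin.cases (v 0) (z.2.1 *ᵥ fun a => v a.succ) := by
  induction hz using Subgroup.closure_induction generalizing v with
  | mem z hz =>
    obtain ⟨a, b, h, t, rfl⟩ := hz
    funext k
    rw [R.act_x (fun e => h (Fin.succ_inj.mp e))]
    refine Fin.cases ?_ (fun c => ?_) k
    · simp [(Fin.succ_ne_zero a).symm]
    · simp [SpecialLinearGroup.transvection_coe, Matrix.add_mulVec, Matrix.single_mulVec,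
        Fin.succ_inj, Function.update_apply]
  | one =>
    funext k
    refine Fin.cases ?_ (fun c => ?_) k <;> simp [R.act_one]
  | mul x y _ _ hx hy =>
    rw [Prod.fst_mul, R.act_mul, hy, hx]
    funext k
    refine Fin.cases ?_ (fun c => ?_) k <;> simp [Matrix.mulVec_mulVec]
  | inv x _ hx =>
    rw [Prod.fst_inv, Prod.snd_inv]
    have e := hx (Fin.cases (v 0) ((x.2⁻¹).1 *ᵥ fun a => v a.succ))
    have hc : ∀ c : Fin (m + 2) → K, x.2.1 *ᵥ ((x.2⁻¹).1 *ᵥ c) = c := fun c => by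
      rw [Matrix.mulVec_mulVec,
        show x.2.1 * (x.2⁻¹).1 = 1 from congrArg Subtype.val (mul_inv_cancel x.2), Matrix.one_mulVec]
    simp only [Fin.cases_zero, Fin.cases_succ, hc] at e
    have e' : (Fin.cases (v 0) (fun a => v a.succ) : Fin (m + 3) → K) = v := by
      funext k; refine Fin.cases ?_ (fun c => ?_) k <;> simp
    rw [e'] at e
    conv_lhs => rw [← e]
    rw [R.act_inv_act]

theorem exists_pairL {l : E} (hl : l ∈ R.L) : ∃ g, (l, g) ∈ R.pairsL := by
  induction hl using Subgroup.closure_induction with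
  | mem l hl =>
    obtain ⟨a, b, t, h, rfl⟩ := hl
    exact ⟨_, Subgroup.subset_closure ⟨a, b, h, t, rfl⟩⟩
  | one => exact ⟨1, one_mem _⟩
  | mul a b _ _ ha hb =>
    obtain ⟨g, hg⟩ := ha; obtain ⟨g', hg'⟩ := hb; exact ⟨g * g', mul_mem hg hg'⟩
  | inv a _ ha => obtain ⟨g, hg⟩ := ha; exact ⟨g⁻¹, inv_mem hg⟩

theorem pairsL_gen : Subgroup.closure {z : R.pairsL | ∃ a b, a ≠ b ∧ ∃ t,
    z.1 = (R.x (Fin.succ a) (Fin.succ b) t, if h : a ≠ b then SpecialLinearGroup.transvection h t else 1)} =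
    ⊤ := by
  refine Subgroup.map_injective (Subgroup.subtype_injective _) ?_
  rw [MonoidHom.map_closure, ← MonoidHom.range_eq_map, Subgroup.range_subtype]
  refine congrArg Subgroup.closure (Set.ext fun z => ⟨?_, ?_⟩)
  · rintro ⟨z, ⟨a, b, h, t, e⟩, rfl⟩
    exact ⟨a, b, h, t, by rw [Subgroup.coe_subtype, e, dif_pos h]⟩
  · rintro ⟨a, b, h, t, rfl⟩
    exact ⟨⟨_, Subgroup.subset_closure ⟨a, b, h, t, rfl⟩⟩, ⟨a, b, h, t, by rw [dif_pos h]⟩, rfl⟩

/-- One step of the induction. -/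
theorem π_injective (IH : Function.Injective ((MonoidHom.snd E _).comp R.pairsL.subtype)) :
    Function.Injective R.π := by
  refine (injective_iff_map_eq_one R.π).mpr fun g hg => ?_
  have hv : (Pi.single 0 1 : Fin (m + 3) → K) ≠ 0 := fun e => one_ne_zero (α := K) (by
    simpa using congrFun e 0)
  have hact : ∀ v, R.act g v = v := fun v => by simp [act, hg]
  have hM : g ∈ R.M := by
    have e := R.equivariant g _ hv
    rw [hact, R.Φ_eq₀ (by simp), R.Φ₀_single, MulAction.Quotient.smul_coe, smul_eq_mul, mul_one,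
      QuotientGroup.eq] at e
    simpa using e
  obtain ⟨a, ha, l, hl, rfl⟩ := R.M_eq hM
  obtain ⟨r, rfl⟩ := R.exists_rowP ha
  obtain ⟨y, hy⟩ := R.exists_pairL hl
  have hl' := R.pairsL_spec hy
  have hy1 : ∀ (c : Fin (m + 2) → K), y.1 *ᵥ c = c := fun c => by
    funext b
    have e := congrFun (hact (Fin.cases 0 c)) b.succ
    rw [R.act_mul, (R.act_rowP r _).2, hl'] at e
    simpa using e
  have hyone : y = 1 := Subtype.ext (Matrix.ext_of_mulVec_single fun b => by
    show _ = (1 : Matrix (Fin (m + 2)) (Fin (m + 2)) K) *ᵥ _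
    rw [hy1, Matrix.one_mulVec])
  subst hyone
  have hl1 : l = 1 := by
    have := @IH ⟨(l, 1), hy⟩ 1 rfl
    exact congrArg (fun z : R.pairsL => z.1.1) this
  subst hl1
  have hr : r = 0 := by
    funext b
    have e := congrFun (hact (Pi.single b.succ 1)) 0
    rw [mul_one, (R.act_rowP r _).1] at e
    simpa [Pi.single_apply, Fin.succ_inj] using e
  rw [hr, R.rowP_zero, mul_one]

end StN

/-- **Steinberg's relations present `SL_n`.** -/
theorem StN.π_bijective.{uK, uE} {K : Type uK} [Field K] [Finite K] :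
    ∀ {m : ℕ} {E : Type (max uK uE)} [Group E] (R : StN K (m + 3) E), Function.Bijective R.π := by
  intro m
  induction m with
  | zero =>
    intro E _ R
    refine ⟨R.π_injective ?_, R.π_surjective⟩
    have hr : ∀ a b : Fin 2, a ≠ b → (a = 0 ∧ b = 1) ∨ (a = 1 ∧ b = 0) := by decide
    let P := R.pairsL
    let X : K → P := fun t => ⟨(R.x (Fin.succ 0) (Fin.succ 1) t, SpecialLinearGroup.transvection zero_ne_one t),
      Subgroup.subset_closure ⟨0, 1, zero_ne_one, t, rfl⟩⟩
    let Y : K → P := fun t => ⟨(R.x (Fin.succ 1) (Fin.succ 0) t, SpecialLinearGroup.transvection one_ne_zero t),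
      Subgroup.subset_closure ⟨1, 0, one_ne_zero, t, rfl⟩⟩
    have eu : ∀ t : K, SpecialLinearGroup.transvection (zero_ne_one : (0 : Fin 2) ≠ 1) t = up t :=
      fun t => Subtype.ext (by
        ext i j
        fin_cases i <;> fin_cases j <;> simp [up, SpecialLinearGroup.transvection_coe, Matrix.single_apply])
    have el : ∀ t : K, SpecialLinearGroup.transvection (one_ne_zero : (1 : Fin 2) ≠ 0) t = low t :=
      fun t => Subtype.ext (by
        ext i j
        fin_cases i <;> fin_cases j <;> simp [low, SpecialLinearGroup.transvection_coe, Matrix.single_apply])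
    have h12 : (Fin.succ 0 : Fin 3) ≠ Fin.succ 1 := by decide
    let S : Rk1 K P :=
      { X := X
        Y := Y
        X_add := fun t u => Subtype.ext (Prod.ext (R.add _ _ h12 t u)
          (SpecialLinearGroup.transvection_add (zero_ne_one : (0 : Fin 2) ≠ 1) t u).symm)
        Y_add := fun t u => Subtype.ext (Prod.ext (R.add _ _ h12.symm t u)
          (SpecialLinearGroup.transvection_add (one_ne_zero : (1 : Fin 2) ≠ 0) t u).symm)
        conjX := fun t u ht => Subtype.ext (Prod.ext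
          (R.cj_w_pq (k := 0) h12 (Fin.succ_ne_zero 0) (Fin.succ_ne_zero 1) ht)
          (conj_rel eu el t u ht))
        gen := by
          rw [eq_top_iff, ← R.pairsL_gen, Subgroup.closure_le]
          rintro ⟨z, hz⟩ ⟨a, b, hab, t, e⟩
          refine Subgroup.subset_closure ?_
          simp only at e
          subst e
          rcases hr a b hab with ⟨rfl, rfl⟩ | ⟨rfl, rfl⟩
          · exact Or.inl ⟨t, Subtype.ext (by simp [X])⟩
          · exact Or.inr ⟨t, Subtype.ext (by simp [Y])⟩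
        π := (MonoidHom.snd _ _).comp P.subtype
        π_X := eu
        π_Y := el }
    exact S.π_bijective.1
  | succ m ih =>
    intro E _ R
    refine ⟨R.π_injective ?_, R.π_surjective⟩
    let R' : StN K (m + 3) R.pairsL :=
      { x := fun a b t => if h : a ≠ b then
          ⟨(R.x a.succ b.succ t, SpecialLinearGroup.transvection h t),
            Subgroup.subset_closure ⟨a, b, h, t, rfl⟩⟩ else 1
        add := fun a b h t u => by
          rw [dif_pos h, dif_pos h, dif_pos h]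
          exact Subtype.ext (Prod.ext (R.add _ _ (fun e => h (Fin.succ_inj.mp e)) t u)
            (SpecialLinearGroup.transvection_add h t u).symm)
        far := fun a b c d h1 h2 h3 h4 t u => by
          rw [dif_pos h1, dif_pos h2]
          exact Subtype.ext (Prod.ext (R.far _ _ _ _ (fun e => h1 (Fin.succ_inj.mp e))
            (fun e => h2 (Fin.succ_inj.mp e)) (fun e => h3 (Fin.succ_inj.mp e))
            (fun e => h4 (Fin.succ_inj.mp e)) t u) (transv_far h1 h2 h3 h4 t u))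
        near := fun a b c h1 h2 h3 t u => by
          rw [dif_pos h1, dif_pos h2, dif_pos h3]
          exact Subtype.ext (Prod.ext (R.near _ _ _ (fun e => h1 (Fin.succ_inj.mp e))
            (fun e => h2 (Fin.succ_inj.mp e)) (fun e => h3 (Fin.succ_inj.mp e)) t u)
            (transv_near h1 h2 h3 t u))
        gen := by
          rw [eq_top_iff, ← R.pairsL_gen, Subgroup.closure_le]
          rintro z ⟨a, b, h, t, e⟩
          refine Subgroup.subset_closure ⟨a, b, h, t, Subtype.ext ?_⟩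
          rw [dif_pos h, e, dif_pos h]
        π := (MonoidHom.snd _ _).comp R.pairsL.subtype
        π_x := fun a b h t => by simp [dif_pos h]; rfl }
    exact (ih R').1

end CfsgLib.StPres
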