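import Mathlib.LinearAlgebra.Matrix.SpecialLinearGroup
import Mathlib.FieldTheory.Finite.Basic
import Mathlib.GroupTheory.SpecificGroups.Cyclic
import Mathlib.RingTheory.IntegralDomain

/-!
# Steinberg's relations in rank one present `SL₂` of a finite field
-/

set_option autoImplicit false
set_option linter.unusedSectionVars false

namespace CfsgLib.StPres

open Matrix

/-- The upper unitriangular element. -/
def up {K : Type*} [Field K] (t : K) : SpecialLinearGroup (Fin 2) K :=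
  ⟨!![1, t; 0, 1], by simp [Matrix.det_fin_two_of]⟩

/-- The lower unitriangular element. -/
def low {K : Type*} [Field K] (t : K) : SpecialLinearGroup (Fin 2) K :=
  ⟨!![1, 0; t, 1], by simp [Matrix.det_fin_two_of]⟩

/-- A group with generators satisfying Steinberg's relations of rank one, mapped to `SL₂`. -/
structure Rk1 (K : Type*) [Field K] (E : Type*) [Group E] where
  /-- the generators -/
  X : K → E
  /-- the opposite generators -/
  Y : K → E
  X_add : ∀ t u, X t * X u = X (t + u)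
  Y_add : ∀ t u, Y t * Y u = Y (t + u)
  conjX : ∀ t u, t ≠ 0 →
    X t * Y (-t⁻¹) * X t * X u * (X t * Y (-t⁻¹) * X t)⁻¹ = Y (-(t⁻¹ ^ 2 * u))
  gen : Subgroup.closure (Set.range X ∪ Set.range Y) = ⊤
  /-- the map to matrices -/
  π : E →* SpecialLinearGroup (Fin 2) K
  π_X : ∀ t, π (X t) = up t
  π_Y : ∀ t, π (Y t) = low t

/-- In a finite field of odd characteristic some pair of non-squares adds up to one. -/
theorem exists_nonsquare_pair {K : Type*} [Field K] [Finite K] (h : ∃ a : K, ¬ IsSquare a) :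
    ∃ a : K, ¬ IsSquare a ∧ ¬ IsSquare (1 - a) := by
  by_contra hc
  push Not at hc
  obtain ⟨a, ha⟩ := h
  have ha0 : a ≠ 0 := fun e => ha (e ▸ IsSquare.zero)
  have ha1 : 1 - a ≠ 0 := fun e => ha (by rw [← sub_eq_zero.mp e]; exact IsSquare.one)
  have hm : ¬ IsSquare (-1 : K) := fun hm => by
    have hi : ¬ IsSquare a⁻¹ := fun e => ha (by simpa using e.inv)
    refine hi ?_
    have e : a⁻¹ = (1 - a⁻¹) * (-1) * (1 - a)⁻¹ := by field_simp; ring
    rw [e]
    exact ((hc _ hi).mul hm).mul (hc a ha).inv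
  have key : ∀ n : ℕ, IsSquare (n : K) := by
    intro n
    induction n with
    | zero => simp
    | succ n ih =>
      by_cases hn : (n : K) = 0
      · simp [hn]
      · have hneg : ¬ IsSquare (-(n : K)) := fun e => hm (by
          rw [show (-1 : K) = -(n : K) * (n : K)⁻¹ by field_simp]
          exact e.mul ih.inv)
        have := hc _ hneg
        rwa [sub_neg_eq_add, add_comm, ← Nat.cast_succ] at this
  obtain ⟨p, hp⟩ := CharP.exists K
  have hp0 : p ≠ 0 := CharP.char_ne_zero_of_finite K p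
  refine hm ?_
  have := key (p - 1)
  rwa [Nat.cast_sub (Nat.one_le_iff_ne_zero.mpr hp0), CharP.cast_eq_zero, zero_sub, Nat.cast_one]
    at this

/-- The quotient of two non-squares of a finite field is a square. -/
theorem isSquare_div {K : Type*} [Field K] [Finite K] {a b : K} (ha : ¬ IsSquare a)
    (hb : ¬ IsSquare b) : IsSquare (a / b) := by
  haveI : Fintype K := Fintype.ofFinite K
  obtain ⟨g, hg⟩ := IsCyclic.exists_monoid_generator (α := Kˣ)
  have hgen : ∀ x : K, x ≠ 0 → ∃ n : ℕ, x = (g : K) ^ n := fun x hx => by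
    obtain ⟨n, hn⟩ := Submonoid.mem_powers_iff _ _ |>.1 (hg (Units.mk0 x hx))
    exact ⟨n, by simpa using (congrArg Units.val hn).symm⟩
  obtain ⟨i, rfl⟩ := hgen a (fun e => ha (e ▸ IsSquare.zero))
  obtain ⟨j, rfl⟩ := hgen b (fun e => hb (e ▸ IsSquare.zero))
  obtain ⟨i', rfl⟩ : Odd i := Nat.not_even_iff_odd.1 fun he => ha (he.isSquare_pow _)
  obtain ⟨j', rfl⟩ : Odd j := Nat.not_even_iff_odd.1 fun he => hb (he.isSquare_pow _)
  refine ⟨(g : K) ^ i' / (g : K) ^ j', ?_⟩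
  rw [pow_succ, pow_succ, pow_mul', pow_mul', mul_div_mul_right _ _ g.ne_zero, div_mul_div_comm,
    sq, sq]

/-- `SL₂` is generated by the unitriangular elements. -/
theorem exists_word {K : Type*} [Field K] (g : SpecialLinearGroup (Fin 2) K) :
    ∃ a b c d : K, g = up a * low b * up c * low d := by
  have main : ∀ g : SpecialLinearGroup (Fin 2) K, g.1 1 0 ≠ 0 →
      ∃ a b c : K, g = up a * low b * up c := by
    intro g hc
    refine ⟨(g.1 0 0 - 1) / g.1 1 0, g.1 1 0, (g.1 1 1 - 1) / g.1 1 0, Subtype.ext ?_⟩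
    have hdet := g.2
    rw [Matrix.det_fin_two] at hdet
    ext i j
    fin_cases i <;> fin_cases j <;>
      simp only [SpecialLinearGroup.coe_mul] <;> simp [up, low, Matrix.mul_apply, Fin.sum_univ_two] <;> field_simp <;>
      first | ring1 | linear_combination hdet | linear_combination -hdet | linear_combination (2 : K) * hdet | linear_combination (-2 : K) * hdet
  by_cases hc : g.1 1 0 = 0
  · obtain ⟨a, b, c, e⟩ := main (g * low 1) (by
      have hdet := g.2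
      rw [Matrix.det_fin_two, hc, mul_zero, sub_zero] at hdet
      simp only [SpecialLinearGroup.coe_mul]
      simp [low, Matrix.mul_apply, Fin.sum_univ_two, hc]
      intro e0; simp [e0] at hdet)
    refine ⟨a, b, c, -1, ?_⟩
    rw [← e, mul_assoc]
    have : low (1 : K) * low (-1) = 1 := by
      refine Subtype.ext ?_
      ext i j
      fin_cases i <;> fin_cases j <;>
        simp only [SpecialLinearGroup.coe_mul] <;> simp [low, Matrix.mul_apply, Fin.sum_univ_two]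
    rw [this, mul_one]
  · obtain ⟨a, b, c, e⟩ := main g hc
    refine ⟨a, b, c, 0, ?_⟩
    rw [e, show low (0 : K) = 1 from Subtype.ext (by
      ext i j; fin_cases i <;> fin_cases j <;> simp [low]), mul_one]

namespace Rk1

variable {K : Type*} [Field K] {E : Type*} [Group E] (R : Rk1 K E)

theorem X_zero : R.X 0 = 1 := by
  have h := R.X_add 0 0
  rw [add_zero] at h
  exact mul_left_cancel (h.trans (mul_one _).symm)

theorem Y_zero : R.Y 0 = 1 := by
  have h := R.Y_add 0 0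
  rw [add_zero] at h
  exact mul_left_cancel (h.trans (mul_one _).symm)

theorem X_inv (t : K) : (R.X t)⁻¹ = R.X (-t) := by
  rw [inv_eq_iff_mul_eq_one, R.X_add, add_neg_cancel, R.X_zero]

theorem Y_inv (t : K) : (R.Y t)⁻¹ = R.Y (-t) := by
  rw [inv_eq_iff_mul_eq_one, R.Y_add, add_neg_cancel, R.Y_zero]

/-- `w(t)`. -/
def w (t : K) : E := R.X t * R.Y (-t⁻¹) * R.X t

/-- `w(1)`. -/
def W : E := R.w 1

/-- `h(t)`. -/
def h (t : K) : E := R.w t * (R.W)⁻¹

theorem w_inv (t : K) : (R.w t)⁻¹ = R.w (-t) := by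
  simp [w, R.X_inv, R.Y_inv, mul_assoc, inv_neg]

theorem w_conjX {t : K} (ht : t ≠ 0) (u : K) :
    R.w t * R.X u * (R.w t)⁻¹ = R.Y (-(t⁻¹ ^ 2 * u)) := R.conjX t u ht

theorem w_conjY {t : K} (ht : t ≠ 0) (u : K) :
    R.w t * R.Y u * (R.w t)⁻¹ = R.X (-(t ^ 2 * u)) := by
  have h1 := R.w_conjX (neg_ne_zero.mpr ht) (-(t ^ 2 * u))
  rw [← R.w_inv, inv_inv, show -((-t)⁻¹ ^ 2 * -(t ^ 2 * u)) = u by field_simp] at h1
  rw [← h1]
  group

theorem braid {t : K} (ht : t ≠ 0) : R.w t = R.Y (-t⁻¹) * R.X t * R.Y (-t⁻¹) := by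
  have e : R.w t = R.w t * R.w t * (R.w t)⁻¹ := by group
  have e1 : R.w t * (R.X t * R.Y (-t⁻¹) * R.X t) * (R.w t)⁻¹ =
      (R.w t * R.X t * (R.w t)⁻¹) * (R.w t * R.Y (-t⁻¹) * (R.w t)⁻¹) *
        (R.w t * R.X t * (R.w t)⁻¹) := by group
  rw [← show R.w t = R.X t * R.Y (-t⁻¹) * R.X t from rfl, ← e, R.w_conjX ht, R.w_conjY ht] at e1
  rw [show -(t⁻¹ ^ 2 * t) = -t⁻¹ by field_simp, show -(t ^ 2 * -t⁻¹) = t by field_simp] at e1
  exact e1

theorem w_conj_w {t s : K} (ht : t ≠ 0) (hs : s ≠ 0) :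
    R.w t * R.w s * (R.w t)⁻¹ = R.w (t ^ 2 / s) := by
  have e : R.w t * R.w s * (R.w t)⁻¹ = (R.w t * R.X s * (R.w t)⁻¹) *
      (R.w t * R.Y (-s⁻¹) * (R.w t)⁻¹) * (R.w t * R.X s * (R.w t)⁻¹) := by
    rw [show R.w s = R.X s * R.Y (-s⁻¹) * R.X s from rfl]; group
  rw [e, R.w_conjX ht, R.w_conjY ht, R.braid (div_ne_zero (pow_ne_zero 2 ht) hs)]
  congr 2 <;> first | (congr 1; field_simp) | field_simp

theorem W_conjX (u : K) : R.W * R.X u * (R.W)⁻¹ = R.Y (-u) := by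
  rw [W, R.w_conjX one_ne_zero]; simp

theorem Winv_conjX (u : K) : (R.W)⁻¹ * R.X u * R.W = R.Y (-u) := by
  have h1 := R.w_conjX (neg_ne_zero.mpr one_ne_zero) u
  rw [← R.w_inv, inv_inv, show -((-1 : K)⁻¹ ^ 2 * u) = -u by simp] at h1
  exact h1

theorem Winv_conjY (u : K) : (R.W)⁻¹ * R.Y u * R.W = R.X (-u) := by
  have h1 := R.w_conjY (neg_ne_zero.mpr one_ne_zero) u
  rw [← R.w_inv, inv_inv, show -((-1 : K) ^ 2 * u) = -u by simp] at h1
  exact h1

theorem h_conjX {t : K} (ht : t ≠ 0) (u : K) : R.h t * R.X u * (R.h t)⁻¹ = R.X (t ^ 2 * u) := by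
  rw [show R.h t * R.X u * (R.h t)⁻¹ = R.w t * ((R.W)⁻¹ * R.X u * R.W) * (R.w t)⁻¹ by
    rw [h]; group, R.Winv_conjX, R.w_conjY ht]
  congr 1; ring

theorem h_conjY {t : K} (ht : t ≠ 0) (u : K) : R.h t * R.Y u * (R.h t)⁻¹ = R.Y (t⁻¹ ^ 2 * u) := by
  rw [show R.h t * R.Y u * (R.h t)⁻¹ = R.w t * ((R.W)⁻¹ * R.Y u * R.W) * (R.w t)⁻¹ by
    rw [h]; group, R.Winv_conjY, R.w_conjX ht]
  congr 1; ring

theorem h_conj_w {t s : K} (ht : t ≠ 0) (hs : s ≠ 0) :
    R.h t * R.w s * (R.h t)⁻¹ = R.w (t ^ 2 * s) := by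
  have e : R.h t * R.w s * (R.h t)⁻¹ = (R.h t * R.X s * (R.h t)⁻¹) *
      (R.h t * R.Y (-s⁻¹) * (R.h t)⁻¹) * (R.h t * R.X s * (R.h t)⁻¹) := by
    rw [w]; group
  rw [e, R.h_conjX ht, R.h_conjY ht, w]
  congr 3; field_simp

theorem h_conj_h {t u : K} (ht : t ≠ 0) (hu : u ≠ 0) :
    R.h t * R.h u * (R.h t)⁻¹ = R.h (t ^ 2 * u) * (R.h (t ^ 2))⁻¹ := by
  have e : R.h t * R.h u * (R.h t)⁻¹ =
      (R.h t * R.w u * (R.h t)⁻¹) * (R.h t * R.w 1 * (R.h t)⁻¹)⁻¹ := by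
    rw [h, h, W]; group
  rw [e, R.h_conj_w ht hu, R.h_conj_w ht one_ne_zero, mul_one, h, h]
  group

theorem W_conj_h {u : K} (hu : u ≠ 0) : R.W * R.h u * (R.W)⁻¹ = R.h u⁻¹ := by
  have e : R.W * R.h u * (R.W)⁻¹ = (R.W * R.w u * (R.W)⁻¹) * (R.W)⁻¹ := by rw [h]; group
  rw [e, W, R.w_conj_w one_ne_zero hu, h, W]
  simp

theorem h_one : R.h 1 = 1 := by simp [h, W]

theorem h_neg_one : R.h (-1) = (R.W)⁻¹ * (R.W)⁻¹ := by rw [h, ← R.w_inv]; rfl

/-- The torus. -/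
def H : Subgroup E := Subgroup.closure {g | ∃ t : K, t ≠ 0 ∧ g = R.h t}

theorem h_mem {t : K} (ht : t ≠ 0) : R.h t ∈ R.H := Subgroup.subset_closure ⟨t, ht, rfl⟩

theorem π_w {t : K} (ht : t ≠ 0) : (R.π (R.w t)).1 = !![0, t; -t⁻¹, 0] := by
  rw [w, map_mul, map_mul, R.π_X, R.π_Y]
  ext i j
  fin_cases i <;> fin_cases j <;>
    simp only [SpecialLinearGroup.coe_mul] <;> simp [up, low, Matrix.mul_apply, Fin.sum_univ_two] <;>
      field_simp <;> simp [add_comm]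

theorem π_h {t : K} (ht : t ≠ 0) : (R.π (R.h t)).1 = !![t, 0; 0, t⁻¹] := by
  rw [h, W, R.w_inv, map_mul, SpecialLinearGroup.coe_mul, R.π_w ht, R.π_w (neg_ne_zero.mpr one_ne_zero)]
  ext i j
  fin_cases i <;> fin_cases j <;> simp [Matrix.mul_apply, Fin.sum_univ_two]

theorem H_spec {g : E} (hg : g ∈ R.H) : ∃ l : K, l ≠ 0 ∧ (R.π g).1 = !![l, 0; 0, l⁻¹] ∧
    (∀ u, g * R.X u * g⁻¹ = R.X (l ^ 2 * u)) ∧ ∀ u, g * R.Y u * g⁻¹ = R.Y (l⁻¹ ^ 2 * u) := by
  induction hg using Subgroup.closure_induction with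
  | mem g hg =>
    obtain ⟨t, ht, rfl⟩ := hg
    exact ⟨t, ht, R.π_h ht, R.h_conjX ht, R.h_conjY ht⟩
  | one => exact ⟨1, one_ne_zero, by simp [Matrix.one_fin_two], by simp, by simp⟩
  | mul a b _ _ ha hb =>
    obtain ⟨l, hl, e1, e2, e3⟩ := ha
    obtain ⟨m, hm, f1, f2, f3⟩ := hb
    refine ⟨l * m, mul_ne_zero hl hm, ?_, fun u => ?_, fun u => ?_⟩
    · rw [map_mul, SpecialLinearGroup.coe_mul, e1, f1]
      ext i j
      fin_cases i <;> fin_cases j <;> simp [Matrix.mul_apply, Fin.sum_univ_two, mul_comm]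
    · rw [show a * b * R.X u * (a * b)⁻¹ = a * (b * R.X u * b⁻¹) * a⁻¹ by group, f2, e2]
      congr 1; ring
    · rw [show a * b * R.Y u * (a * b)⁻¹ = a * (b * R.Y u * b⁻¹) * a⁻¹ by group, f3, e3]
      congr 1; field_simp
  | inv a _ ha =>
    obtain ⟨l, hl, e1, e2, e3⟩ := ha
    refine ⟨l⁻¹, inv_ne_zero hl, ?_, fun u => ?_, fun u => ?_⟩
    · rw [map_inv, SpecialLinearGroup.coe_inv, e1, Matrix.adjugate_fin_two_of]
      simp
    · have := e2 (l⁻¹ ^ 2 * u)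
      rw [show l ^ 2 * (l⁻¹ ^ 2 * u) = u by field_simp] at this
      rw [← this]; group
    · have := e3 (l⁻¹⁻¹ ^ 2 * u)
      rw [show l⁻¹ ^ 2 * (l⁻¹⁻¹ ^ 2 * u) = u by field_simp] at this
      rw [← this]; group

theorem mem_center {g : E} (hX : ∀ u, Commute g (R.X u)) (hY : ∀ u, Commute g (R.Y u)) :
    g ∈ Subgroup.center E := by
  rw [Subgroup.mem_center_iff]
  intro z
  have hz : z ∈ Subgroup.closure (Set.range R.X ∪ Set.range R.Y) := R.gen ▸ Subgroup.mem_top z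
  induction hz using Subgroup.closure_induction with
  | mem z hz =>
    rcases hz with ⟨u, rfl⟩ | ⟨u, rfl⟩
    · exact (hX u).eq.symm
    · exact (hY u).eq.symm
  | one => simp
  | mul a b _ _ ha hb => rw [mul_assoc, hb, ← mul_assoc, ha, mul_assoc]
  | inv a _ ha => exact (Commute.inv_right (Commute.symm ha)).symm.eq

variable [Finite K]

theorem H_comm {a b : E} (ha : a ∈ R.H) (hb : b ∈ R.H) : a * b = b * a := by
  let f : ↥R.H →* K := {
    toFun := fun g => (R.π g.1).1 0 0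
    map_one' := by simp
    map_mul' := fun x y => by
      obtain ⟨l, -, e1, -⟩ := R.H_spec x.2
      obtain ⟨m, -, f1, -⟩ := R.H_spec y.2
      simp [e1, f1, Matrix.mul_apply, Fin.sum_univ_two] }
  have hker : f.toHomUnits.ker ≤ Subgroup.center ↥R.H := by
    rintro ⟨x, hx⟩ hk
    have hk' : (R.π x).1 0 0 = 1 := congrArg Units.val hk
    obtain ⟨l, hl, e1, e2, e3⟩ := R.H_spec hx
    rw [e1] at hk'
    simp at hk'
    subst hk'
    have hc : x ∈ Subgroup.center E :=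
      R.mem_center (fun u => mul_inv_eq_iff_eq_mul.mp (by simpa using e2 u))
        (fun u => mul_inv_eq_iff_eq_mul.mp (by simpa using e3 u))
    exact Subgroup.mem_center_iff.mpr fun y => Subtype.ext (Subgroup.mem_center_iff.mp hc y.1)
  exact congrArg Subtype.val
    (commutative_of_cyclic_center_quotient f.toHomUnits hker ⟨a, ha⟩ ⟨b, hb⟩)

theorem h_sq_mul {t u : K} (ht : t ≠ 0) (hu : u ≠ 0) : R.h u * R.h (t ^ 2) = R.h (t ^ 2 * u) := by
  have e := R.h_conj_h ht hu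
  rw [R.H_comm (R.h_mem ht) (R.h_mem hu), mul_inv_cancel_right, eq_mul_inv_iff_mul_eq] at e
  exact e

theorem h_symbol {t u : K} (ht : t ≠ 0) (hu : u ≠ 0) (hs : t + u = 1) :
    R.h t * R.h u⁻¹ = R.h (t / u) := by
  have key : R.w t * R.w u = R.w (t / u) * R.W := by
    have h1 : R.X 1 = R.Y 1 * R.W * R.Y 1 := by
      have := R.braid one_ne_zero (K := K)
      rw [W, this, inv_one, ← R.Y_inv]; group
    have h2 : R.W * R.Y (-t / u) = R.X (t / u) * R.W := by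
      have := R.w_conjY one_ne_zero (-t / u)
      rw [mul_inv_eq_iff_eq_mul] at this
      rw [W, this]; congr 2; ring
    have h3 : R.W * R.X u = R.Y (-u) * R.W := mul_inv_eq_iff_eq_mul.mp (R.W_conjX u)
    have htu : t / u ≠ 0 := div_ne_zero ht hu
    have h4 : R.w (t / u) * R.Y (-u) = R.X ((t / u) ^ 2 * u) * R.w (t / u) := by
      have := R.w_conjY htu (-u)
      rw [mul_inv_eq_iff_eq_mul] at this
      rw [this]; congr 2; ring
    calc R.w t * R.w u = R.X t * R.Y (-t⁻¹) * (R.X t * R.X u) * R.Y (-u⁻¹) * R.X u := by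
          rw [w, w]; group
      _ = R.X t * (R.Y (-t⁻¹) * R.Y 1) * R.W * (R.Y 1 * R.Y (-u⁻¹)) * R.X u := by
          rw [R.X_add, hs, h1]; group
      _ = R.X t * R.Y (-(t / u)⁻¹) * (R.W * R.Y (-t / u)) * R.X u := by
          rw [R.Y_add, R.Y_add]
          have e1 : -t⁻¹ + 1 = -(t / u)⁻¹ := by field_simp; linear_combination hs
          have e2 : 1 + -u⁻¹ = -t / u := by field_simp; linear_combination hs
          rw [e1, e2]; group
      _ = (R.X (t - t / u) * R.X (t / u)) * R.Y (-(t / u)⁻¹) * R.X (t / u) * (R.W * R.X u) := by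
          rw [R.X_add, h2, sub_add_cancel]; group
      _ = R.X (t - t / u) * (R.w (t / u) * R.Y (-u)) * R.W := by
          rw [h3, show R.w (t / u) = R.X (t / u) * R.Y (-(t / u)⁻¹) * R.X (t / u) from rfl]; group
      _ = (R.X (t - t / u) * R.X ((t / u) ^ 2 * u)) * R.w (t / u) * R.W := by
          rw [h4]; group
      _ = R.w (t / u) * R.W := by
          rw [R.X_add, show t - t / u + (t / u) ^ 2 * u = 0 by
            field_simp; linear_combination t * hs, R.X_zero, one_mul]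
  rw [← R.W_conj_h hu]
  calc R.h t * (R.W * R.h u * (R.W)⁻¹) = R.w t * R.w u * (R.W)⁻¹ * (R.W)⁻¹ := by
        rw [h, h]; group
    _ = R.h (t / u) := by rw [key, h]; group

theorem h_mul {t u : K} (ht : t ≠ 0) (hu : u ≠ 0) : R.h t * R.h u = R.h (t * u) := by
  by_cases hu2 : IsSquare u
  · obtain ⟨r, rfl⟩ := hu2
    rw [← sq, R.h_sq_mul (fun e => hu (by simp [e])) ht, mul_comm]
  by_cases ht2 : IsSquare t
  · obtain ⟨r, rfl⟩ := ht2
    rw [R.H_comm (R.h_mem ht) (R.h_mem hu), ← sq, R.h_sq_mul (fun e => ht (by simp [e])) hu]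
  obtain ⟨a, ha, hb⟩ := exists_nonsquare_pair ⟨t, ht2⟩
  have ha0 : a ≠ 0 := fun e => ha (e ▸ IsSquare.zero)
  have hb0 : 1 - a ≠ 0 := fun e => hb (e ▸ IsSquare.zero)
  obtain ⟨r, hr⟩ := isSquare_div ht2 ha
  obtain ⟨s, hs⟩ := isSquare_div hu2 (b := (1 - a)⁻¹) fun e => hb (by simpa using e.inv)
  have hr0 : r ≠ 0 := fun e => ht (by simpa [e, ha0] using hr)
  have hs0 : s ≠ 0 := fun e => hu (by simpa [e, hb0] using hs)
  have et : t = r ^ 2 * a := by rw [sq, ← hr, div_mul_cancel₀ t ha0]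
  have eu : u = s ^ 2 * (1 - a)⁻¹ := by rw [sq, ← hs, div_mul_cancel₀ u (inv_ne_zero hb0)]
  rw [et, eu, ← R.h_sq_mul hr0 ha0, ← R.h_sq_mul hs0 (inv_ne_zero hb0)]
  calc R.h a * R.h (r ^ 2) * (R.h (1 - a)⁻¹ * R.h (s ^ 2))
      = R.h a * (R.h (r ^ 2) * R.h (1 - a)⁻¹) * R.h (s ^ 2) := by group
    _ = R.h a * R.h (1 - a)⁻¹ * R.h (r ^ 2) * R.h (s ^ 2) := by
        rw [R.H_comm (R.h_mem (pow_ne_zero 2 hr0)) (R.h_mem (inv_ne_zero hb0))]; group
    _ = _ := by
        rw [R.h_symbol ha0 hb0 (add_sub_cancel a 1), R.h_sq_mul hr0 (div_ne_zero ha0 hb0),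
          R.h_sq_mul hs0 (mul_ne_zero (pow_ne_zero 2 hr0) (div_ne_zero ha0 hb0))]
        congr 1; ring

theorem H_eq {g : E} (hg : g ∈ R.H) : ∃ t : K, t ≠ 0 ∧ g = R.h t := by
  induction hg using Subgroup.closure_induction with
  | mem g hg => exact hg
  | one => exact ⟨1, one_ne_zero, R.h_one.symm⟩
  | mul a b _ _ ha hb =>
    obtain ⟨t, ht, rfl⟩ := ha
    obtain ⟨u, hu, rfl⟩ := hb
    exact ⟨t * u, mul_ne_zero ht hu, R.h_mul ht hu⟩
  | inv a _ ha =>
    obtain ⟨t, ht, rfl⟩ := ha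
    refine ⟨t⁻¹, inv_ne_zero ht, ?_⟩
    rw [inv_eq_iff_mul_eq_one, R.h_mul ht (inv_ne_zero ht), mul_inv_cancel₀ ht, R.h_one]

/-- The two Bruhat cells. -/
def cells : Set E := {g | (∃ (a : K) (k : E), k ∈ R.H ∧ g = R.X a * k) ∨
  ∃ (a b : K) (k : E), k ∈ R.H ∧ g = R.X a * R.W * k * R.X b}

theorem X_mul_cells (c : K) {g : E} (hg : g ∈ R.cells) : R.X c * g ∈ R.cells := by
  rcases hg with ⟨a, k, hk, rfl⟩ | ⟨a, b, k, hk, rfl⟩
  · exact Or.inl ⟨c + a, k, hk, by rw [← R.X_add, mul_assoc]⟩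
  · exact Or.inr ⟨c + a, b, k, hk, by rw [← R.X_add]; group⟩

theorem W_sq_mem : R.W * R.W ∈ R.H := by
  have := inv_mem (R.h_mem (neg_ne_zero.mpr (one_ne_zero (α := K))))
  rwa [R.h_neg_one, _root_.mul_inv_rev, inv_inv] at this

theorem push {k : E} (hk : k ∈ R.H) (c : K) : ∃ c', R.X c * k = k * R.X c' := by
  obtain ⟨l, hl, -, e, -⟩ := R.H_spec hk
  refine ⟨l⁻¹ ^ 2 * c, ?_⟩
  have := e (l⁻¹ ^ 2 * c)
  rw [show l ^ 2 * (l⁻¹ ^ 2 * c) = c by field_simp, mul_inv_eq_iff_eq_mul] at this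
  exact this.symm

theorem H_mul_cells {m g : E} (hm : m ∈ R.H) (hg : g ∈ R.cells) : m * g ∈ R.cells := by
  obtain ⟨l, -, -, e, -⟩ := R.H_spec hm
  rcases hg with ⟨a, k, hk, rfl⟩ | ⟨a, b, k, hk, rfl⟩
  · exact Or.inl ⟨l ^ 2 * a, m * k, mul_mem hm hk, by rw [← e]; group⟩
  · refine Or.inr ⟨l ^ 2 * a, b, (R.W)⁻¹ * m * R.W * k, mul_mem ?_ hk, by rw [← e]; group⟩
    obtain ⟨t, ht, rfl⟩ := R.H_eq hm
    have := R.W_conj_h (inv_ne_zero ht)
    rw [inv_inv] at this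
    rw [← this]
    simpa [mul_assoc] using R.h_mem (inv_ne_zero ht)

theorem W_mul_cells {g : E} (hg : g ∈ R.cells) : R.W * g ∈ R.cells := by
  rcases hg with ⟨a, k, hk, rfl⟩ | ⟨a, b, k, hk, rfl⟩
  · obtain ⟨c, e⟩ := R.push hk a
    exact Or.inr ⟨0, c, k, hk, by rw [R.X_zero, e]; group⟩
  · by_cases ha : a = 0
    · subst ha
      obtain ⟨l, hl, -, e, -⟩ := R.H_spec (mul_mem R.W_sq_mem hk)
      refine Or.inl ⟨l ^ 2 * b, R.W * R.W * k, mul_mem R.W_sq_mem hk, ?_⟩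
      rw [R.X_zero, ← e]; group
    · have hY : R.Y (-a) = R.X (-a⁻¹) * R.w a⁻¹ * R.X (-a⁻¹) := by
        rw [w, inv_inv, ← R.X_inv]; group
      obtain ⟨c, e⟩ := R.push (mul_mem R.W_sq_mem hk) (-a⁻¹)
      have e' : R.W * (R.X a * R.W * k * R.X b) =
          R.X (-a⁻¹) * (R.h a⁻¹ * R.W * (R.W * R.W * k) * R.X (c + b)) := by
        calc R.W * (R.X a * R.W * k * R.X b)
            = (R.W * R.X a * (R.W)⁻¹) * (R.W * R.W * k) * R.X b := by group
          _ = R.X (-a⁻¹) * R.w a⁻¹ * (R.X (-a⁻¹) * (R.W * R.W * k)) * R.X b := by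
              rw [R.W_conjX, hY]; group
          _ = _ := by rw [e, ← R.X_add, h]; group
      rw [e']
      refine R.X_mul_cells _ ?_
      rw [show R.h a⁻¹ * R.W * (R.W * R.W * k) * R.X (c + b) =
        R.h a⁻¹ * (R.X 0 * R.W * (R.W * R.W * k) * R.X (c + b)) by rw [R.X_zero]; group]
      exact R.H_mul_cells (R.h_mem (inv_ne_zero ha))
        (Or.inr ⟨0, c + b, _, mul_mem R.W_sq_mem hk, rfl⟩)

theorem cells_univ (g : E) : g ∈ R.cells := by
  have hg : g ∈ Subgroup.closure (Set.range R.X ∪ Set.range R.Y) := R.gen ▸ Subgroup.mem_top g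
  have hY : ∀ (c : K) (x : E), x ∈ R.cells → R.Y c * x ∈ R.cells := by
    intro c x hx
    have e : R.Y c * x = R.W * (R.X (-c) * (R.h (-1) * (R.W * x))) := by
      rw [R.h_neg_one, show R.Y c = R.W * R.X (-c) * (R.W)⁻¹ by rw [R.W_conjX, neg_neg]]
      group
    rw [e]
    exact R.W_mul_cells (R.X_mul_cells _ (R.H_mul_cells (R.h_mem (by simp)) (R.W_mul_cells hx)))
  suffices h : ∀ x ∈ R.cells, g * x ∈ R.cells by
    simpa using h 1 (Or.inl ⟨0, 1, one_mem _, by rw [R.X_zero, one_mul]⟩)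
  refine Subgroup.closure_induction_left (p := fun g _ => ∀ x ∈ R.cells, g * x ∈ R.cells)
    (by simp) ?_ ?_ hg
  · rintro y (⟨c, rfl⟩ | ⟨c, rfl⟩) z _ ih x hx <;> rw [mul_assoc]
    · exact R.X_mul_cells c (ih x hx)
    · exact hY c _ (ih x hx)
  · rintro y (⟨c, rfl⟩ | ⟨c, rfl⟩) z _ ih x hx <;> rw [mul_assoc]
    · rw [R.X_inv]; exact R.X_mul_cells _ (ih x hx)
    · rw [R.Y_inv]; exact hY _ _ (ih x hx)

theorem π_bijective : Function.Bijective R.π := by
  refine ⟨(injective_iff_map_eq_one R.π).mpr fun g hg => ?_, fun g => ?_⟩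
  · have hg1 : (R.π g).1 = 1 := by rw [hg]; rfl
    rcases R.cells_univ g with ⟨a, k, hk, rfl⟩ | ⟨a, b, k, hk, rfl⟩
    · obtain ⟨t, ht, rfl⟩ := R.H_eq hk
      rw [map_mul, R.π_X, SpecialLinearGroup.coe_mul, R.π_h ht] at hg1
      have e00 := congrFun (congrFun hg1 0) 0
      have e01 := congrFun (congrFun hg1 0) 1
      simp [up, Matrix.mul_apply, Fin.sum_univ_two] at e00 e01
      subst e00
      simp only [one_ne_zero, or_false] at e01
      rw [e01, R.X_zero, R.h_one, one_mul]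
    · exfalso
      obtain ⟨t, ht, rfl⟩ := R.H_eq hk
      rw [map_mul, map_mul, map_mul, R.π_X, R.π_X, SpecialLinearGroup.coe_mul,
        SpecialLinearGroup.coe_mul, SpecialLinearGroup.coe_mul, W, R.π_w one_ne_zero, R.π_h ht] at hg1
      have e := congrFun (congrFun hg1 1) 0
      simp [up, Matrix.mul_apply, Fin.sum_univ_two, ht] at e
  · obtain ⟨a, b, c, d, rfl⟩ := exists_word g
    exact ⟨R.X a * R.Y b * R.X c * R.Y d, by simp [R.π_X, R.π_Y]⟩

end Rk1

end CfsgLib.StPres
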